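import Cfsg.Agent.MonsterX.CertTab_m3
import Cfsg.Agent.MonsterX.FieldsO
import Cfsg.Agent.Leech.Code
import Cfsg.Agent.MonsterX.KDone
import Cfsg.Agent.Leech.TransPair
import Cfsg.Agent.MonsterP.H1Abs_mg_m3
import Cfsg.Agent.SporadicA.M24Chain
import Cfsg.Agent.MonsterX.ProgEqBase_m3
import Cfsg.Agent.MonsterX.InstanceFinal_m3
import Cfsg.Agent.Prune
set_option linter.all false

section
prune_inst 0x7ffefdfcafb8bbffffff7e7fa7deeffdf9b99fffe6dff97bffe26bff3bbf37270fc5ffafebe49afece76e21c90b87853fb7eefffe06bdc7ffffdffb41ffbee4ff5f73508719c9cb01e280fff83f1470a6f3ffff77fffffffffffffffffffffffffbfffffffff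

-- part: H850/Bil
section
prune_inst 0x2000001000000000000002000000000000000000000000084004040000000200000000000000000002000000000000000000200000000000000400000000208880000430000008400007000100000000000000000000000000000000000000000000000
set_option linter.all false
open scoped Cfsg.Agent.FastGrp

-- part: H850/Coord
section
/-!
# Coordinates of the 300-part of the Griess algebra (helper850)

`uq x = ∑ (x p x q / 32) sv p q`; the polarisation `bq x y`; the signed permutations; the identity matrix.
-/

set_option autoImplicit false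

namespace Cfsg.Agent.H850.Coord

open Cfsg Cfsg.Agent.Monster.VecEngine Cfsg.Agent.Monster Cfsg.Agent.Monster.VecSpace
open Cfsg.Agent.MonsterX.ProgBase Cfsg.Agent.MonsterX.Space Cfsg.Agent.MonsterX.MatAct
open Cfsg.Agent.MonsterX.CoGens Cfsg.Agent.MonsterX.USide Cfsg.Agent.MonsterX.UOnto
open Cfsg.Agent.SporadicStructure.Co0Base Cfsg.Agent.MonsterX
open Cfsg.Agent.SporadicA.M24Gens (pidx pidx_injective)

theorem sv_comm (p q : GolayPt) : sv p q = sv q p := Subtype.ext (add_comm _ _)

theorem sv_coe (p q : GolayPt) : (sv p q).1 = uv p q + uv q p := rfl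

/-- The polarisation: the matrix `(x y^T + y x^T) / 16`. -/
noncomputable def bq (x y : GolayPt → ℚ) : V := ∑ p, ∑ q, (x p * y q / 16) • sv p q

theorem bq_coe (x y : GolayPt → ℚ) :
    (bq x y).1 = ∑ p, ∑ q, (x p * y q / 16) • (uv p q + uv q p) := by
  unfold bq
  rw [AddSubmonoidClass.coe_finsetSum]
  refine Finset.sum_congr rfl fun p _ => ?_
  rw [AddSubmonoidClass.coe_finsetSum]
  rfl

theorem bq_eq (x y : GolayPt → ℚ) : bq x y = uq (x + y) - uq x - uq y := by
  apply Subtype.ext
  show (bq x y).1 = uf (x + y) - uf x - uf y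
  rw [bq_coe, uf_add, add_sub_right_comm, add_sub_cancel_left, add_sub_assoc]
  rw [add_comm (uf y), sub_add_cancel]
  have h : ∀ p q : GolayPt, ((x p * y q + y p * x q) / 16) • uv p q =
      (x p * y q / 16) • uv p q + (y p * x q / 16) • uv p q := by
    intro p q
    rw [← add_smul]; congr 1; ring
  simp only [h, smul_add, Finset.sum_add_distrib]
  congr 1
  rw [Finset.sum_comm]
  refine Finset.sum_congr rfl fun q _ => Finset.sum_congr rfl fun p _ => ?_
  congr 1; ring

theorem uq_eq (x : GolayPt → ℚ) : uq x = ∑ p, ∑ q, (x p * x q / 32) • sv p q := by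
  apply Subtype.ext
  have hc : ((∑ p, ∑ q, (x p * x q / 32) • sv p q : V) : Lane U → ℚ) =
      ∑ p, ∑ q, (x p * x q / 32) • (uv p q + uv q p) := by
    rw [AddSubmonoidClass.coe_finsetSum]
    refine Finset.sum_congr rfl fun p _ => ?_
    rw [AddSubmonoidClass.coe_finsetSum]
    rfl
  rw [hc]
  show uf x = _
  unfold uf
  have h : ∀ p q : GolayPt, (x p * x q / 16) • uv p q =
      (x p * x q / 32) • uv p q + (x p * x q / 32) • uv p q := by
    intro p q
    rw [← add_smul]; congr 1; ring
  simp only [h, smul_add, Finset.sum_add_distrib]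
  congr 1
  rw [Finset.sum_comm]
  refine Finset.sum_congr rfl fun q _ => Finset.sum_congr rfl fun p _ => ?_
  congr 1; ring

theorem bq_self (x : GolayPt → ℚ) : bq x x = (2 : ℚ) • uq x := by
  rw [uq_eq, Finset.smul_sum]
  unfold bq
  refine Finset.sum_congr rfl fun p _ => ?_
  rw [Finset.smul_sum]
  refine Finset.sum_congr rfl fun q _ => ?_
  rw [smul_smul]; congr 1; ring

theorem bq_add_left (x x' y : GolayPt → ℚ) : bq (x + x') y = bq x y + bq x' y := by
  unfold bq
  rw [← Finset.sum_add_distrib]
  refine Finset.sum_congr rfl fun p _ => ?_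
  rw [← Finset.sum_add_distrib]
  refine Finset.sum_congr rfl fun q _ => ?_
  rw [← add_smul]; congr 1; rw [Pi.add_apply]; ring

theorem bq_single (i j : GolayPt) (a b : ℚ) :
    bq (Pi.single i a) (Pi.single j b) = (a * b / 16) • sv i j := by
  unfold bq
  rw [Finset.sum_eq_single i]
  · rw [Finset.sum_eq_single j]
    · rw [Pi.single_eq_same, Pi.single_eq_same]
    · intro q _ hq
      rw [Pi.single_eq_of_ne hq, mul_zero, zero_div, zero_smul]
    · intro h; exact absurd (Finset.mem_univ _) h
  · intro p _ hp
    refine Finset.sum_eq_zero fun q _ => ?_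
    rw [Pi.single_eq_of_ne hp, zero_mul, zero_div, zero_smul]
  · intro h; exact absurd (Finset.mem_univ _) h

theorem uq_add (x y : GolayPt → ℚ) : uq (x + y) = uq x + uq y + bq x y := by
  rw [bq_eq]; abel

theorem uq_single (i : GolayPt) (a : ℚ) : uq (Pi.single i a) = (a ^ 2 / 32) • sv i i := by
  have h := bq_self (Pi.single i a)
  rw [bq_single] at h
  have h2 : uq (Pi.single i a) = (2 : ℚ)⁻¹ • ((a * a / 16) • sv i i) := by
    rw [h, smul_smul, inv_mul_cancel₀ two_ne_zero, one_smul]
  rw [h2, smul_smul]; congr 1; ring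

/-- `uq` of `a e_i + b e_j`. -/
theorem uq_two (i j : GolayPt) (a b : ℚ) : uq (Pi.single i a + Pi.single j b) =
    (a ^ 2 / 32) • sv i i + (b ^ 2 / 32) • sv j j + (a * b / 16) • sv i j := by
  rw [uq_add, uq_single, uq_single, bq_single]

/-! ### Inner products -/

theorem sv_lane (p q r s : GolayPt) : (sv p q).1 (lane r s) =
    (if r = p ∧ s = q then 1 else 0) + (if r = q ∧ s = p then 1 else 0) := by
  rw [sv_coe, Pi.add_apply, uv_apply, uv_apply]
  have h : ∀ a b : GolayPt, (lane r s = lane a b) ↔ (r = a ∧ s = b) := by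
    intro a b
    constructor
    · exact lane_inj
    · rintro ⟨rfl, rfl⟩; rfl
  simp only [h]

theorem F_uq_sv (x : GolayPt → ℚ) (p q : GolayPt) : F (uq x) (sv p q) = x p * x q / 8 := by
  rw [F_uq]
  simp only [sv_lane, mul_add, Finset.sum_add_distrib]
  have h : ∀ a b : GolayPt, (∑ r, ∑ s, x r * x s / 16 * (if r = a ∧ s = b then (1 : ℚ) else 0)) =
      x a * x b / 16 := by
    intro a b
    rw [Finset.sum_eq_single a]
    · rw [Finset.sum_eq_single b]
      · rw [if_pos ⟨rfl, rfl⟩, mul_one]
      · intro s _ hs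
        rw [if_neg (fun h => hs h.2), mul_zero]
      · intro h; exact absurd (Finset.mem_univ _) h
    · intro r _ hr
      refine Finset.sum_eq_zero fun s _ => ?_
      rw [if_neg (fun h => hr h.1), mul_zero]
    · intro h; exact absurd (Finset.mem_univ _) h
  rw [h, h]; ring

theorem rt_add (v w : leechLattice) : rt (v + w) = rt v + rt w := by
  funext p
  show ((((v + w : leechLattice) : GolayPt → ℤ) p : ℤ) : ℚ) = _
  rw [AddSubgroup.coe_add, Pi.add_apply]
  push_cast
  rfl

/-- The polarisation on lattice vectors. -/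
theorem bq_rt (v w : leechLattice) : bq (rt v) (rt w) = u (v + w) - u v - u w := by
  rw [bq_eq, ← rt_add]; rfl

/-- The induced action on the polarisation. -/
theorem ind_bq {k : V ≃ₗ[ℚ] V} {A : Co0} (h : Ind k A) (v w : leechLattice) :
    k (bq (rt v) (rt w)) = bq (rt (A • v)) (rt (A • w)) := by
  rw [bq_rt, bq_rt, map_sub, map_sub, h, h, h, co0_smul_add]

theorem sv_eq_bq (i j : GolayPt) : sv i j = (4 : ℚ)⁻¹ • bq (rt (e8 i)) (rt (e8 j)) := by
  rw [rt_e8, rt_e8, bq_single, smul_smul]
  norm_num

/-- The sign of a point for a set of points. -/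
def sn (c : Finset GolayPt) (p : GolayPt) : ℚ := if p ∈ c then -1 else 1

theorem rt_monomial_e8 (σ : Equiv.Perm GolayPt) (hσ : σ ∈ M24) (c : Finset GolayPt)
    (hc : c ∈ supports (golayCode : Set (GolayPt → ZMod 2))) (i : GolayPt) :
    rt (monomial σ hσ c hc • e8 i) = Pi.single (σ i) (sn c (σ i) * 8) := by
  funext p
  show (((monomial σ hσ c hc • e8 i : leechLattice) : GolayPt → ℤ) p : ℚ) = _
  rw [monomial_smul, signedPerm_apply, e8_coe]
  have h : σ.symm p = i ↔ p = σ i := by
    rw [Equiv.symm_apply_eq]
  by_cases hp : p = σ i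
  · subst hp
    rw [Equiv.symm_apply_apply, Pi.single_eq_same, Pi.single_eq_same]
    unfold sn
    split_ifs <;> simp
  · have h1 : σ.symm p ≠ i := fun h' => hp (h.1 h')
    rw [Pi.single_eq_of_ne h1, Pi.single_eq_of_ne hp]
    simp

/-- The action of a signed permutation on the matrix units. -/
theorem ind_sv {k : V ≃ₗ[ℚ] V} (σ : Equiv.Perm GolayPt) (hσ : σ ∈ M24) (c : Finset GolayPt)
    (hc : c ∈ supports (golayCode : Set (GolayPt → ZMod 2))) (h : Ind k (monomial σ hσ c hc))
    (i j : GolayPt) : k (sv i j) = (sn c (σ i) * sn c (σ j)) • sv (σ i) (σ j) := by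
  rw [sv_eq_bq, map_smul, ind_bq h, rt_monomial_e8, rt_monomial_e8, bq_single, smul_smul]
  congr 1; ring

/-! ### The identity matrix -/

/-- The identity matrix. -/
noncomputable def I : V := vecV FieldsO.idB

/-- The mask of the diagonal. -/
noncomputable def orD (n : ℕ) : ℕ :=
  Nat.rec (motive := fun _ => ℕ) 0 (fun a ih => Nat.lor (bp a a) ih) n

theorem testBit_orD {n i : ℕ} : (orD n).testBit i = true ↔ ∃ a < n, i = ln a a := by
  induction n with
  | zero =>
    constructor
    · intro h
      exact absurd (show Nat.testBit 0 i = true from h) (by simp)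
    · rintro ⟨a, ha, -⟩; omega
  | succ n ih =>
    have e : orD (n + 1) = bp n n ||| orD n := rfl
    rw [e, Nat.testBit_or, Bool.or_eq_true, ih, testBit_bp, decide_eq_true_iff]
    constructor
    · rintro (h | ⟨a, ha, h⟩)
      · exact ⟨n, by omega, h⟩
      · exact ⟨a, by omega, h⟩
    · rintro ⟨a, ha, h⟩
      rcases Nat.lt_succ_iff_lt_or_eq.1 ha with h' | rfl
      · exact Or.inr ⟨a, h', h⟩
      · exact Or.inl h

theorem idB_eq : FieldsO.idB = .cons (orD 24) (.sgn 0) := by
  have h : orD 24 = Nat.shiftLeft 0x8000000040000000200000001000000008000000040000000200000001000000008000000040000000200000001000000008000000040000000200000001000000008000000040000000200000001000000008000000040000000200000001 61440 :=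
    Nat.eq_of_beq_eq_true (by decide +kernel)
  rw [h]; rfl

theorem I_apply (i : Lane U) : I.1 i = if ∃ p : GolayPt, i = lane p p then 1 else 0 := by
  have h : I.1 = vecU ℚ U FieldsO.idB := vecV_coe FieldsO.sym_idB
  rw [h, idB_eq]
  show ((bt (orD 24) i.1 + 2 * -bt 0 i.1 : ℤ) : ℚ) = _
  rw [bt_zero]
  have key : (orD 24).testBit i.1 = true ↔ ∃ p : GolayPt, i = lane p p := by
    rw [testBit_orD]
    constructor
    · rintro ⟨a, ha, h⟩
      refine ⟨Cfsg.Agent.SporadicA.GolayBase.pt a, Subtype.ext ?_⟩
      show i.1 = ln (pidx _) (pidx _)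
      have h1 : pidx (Cfsg.Agent.SporadicA.GolayBase.pt a) = a :=
        Cfsg.Agent.SporadicA.GolayBase.idx_pt ha
      rw [h1, h]
    · rintro ⟨p, rfl⟩
      exact ⟨pidx p, pidx_lt p, rfl⟩
  unfold bt
  by_cases hp : ∃ p : GolayPt, i = lane p p
  · rw [if_pos hp, if_pos (key.2 hp)]; norm_num
  · rw [if_neg hp, if_neg (fun h => hp (key.1 h))]; norm_num

theorem I_eq : I = ∑ p, (1 / 2 : ℚ) • sv p p := by
  apply Subtype.ext
  rw [AddSubmonoidClass.coe_finsetSum]
  funext i
  rw [I_apply, Finset.sum_apply]
  have h : ∀ p : GolayPt, (((1 / 2 : ℚ) • sv p p : V) : Lane U → ℚ) i = if i = lane p p then 1 else 0 := by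
    intro p
    show (1 / 2 : ℚ) * ((uv p p + uv p p) i) = _
    rw [Pi.add_apply, uv_apply]
    split_ifs <;> norm_num
  simp only [h]
  by_cases hp : ∃ p : GolayPt, i = lane p p
  · rw [if_pos hp]
    obtain ⟨p, rfl⟩ := hp
    rw [Finset.sum_eq_single p]
    · rw [if_pos rfl]
    · intro q _ hq
      rw [if_neg (fun h => hq (lane_inj h).1.symm)]
    · intro h; exact absurd (Finset.mem_univ _) h
  · rw [if_neg hp]
    symm
    refine Finset.sum_eq_zero fun p _ => ?_
    rw [if_neg (fun h => hp ⟨p, h⟩)]

theorem F_uq_I (x : GolayPt → ℚ) : F (uq x) I = (∑ p, x p ^ 2) / 16 := by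
  rw [I_eq, map_sum, Finset.sum_div]
  refine Finset.sum_congr rfl fun p _ => ?_
  rw [map_smul, F_uq_sv, smul_eq_mul]; ring

theorem F_I_sv (p q : GolayPt) : F I (sv p q) = if p = q then 2 else 0 := by
  have h : ∀ r : GolayPt, sv r r = (1 / 2 : ℚ) • uq (Pi.single r 8) := by
    intro r
    rw [uq_single, smul_smul]; norm_num
  rw [I_eq, map_sum, LinearMap.sum_apply]
  simp only [h, map_smul, LinearMap.smul_apply, F_uq_sv, smul_eq_mul]
  rw [Finset.sum_eq_single p]
  · rw [Pi.single_eq_same]
    by_cases hpq : p = q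
    · subst hpq; rw [if_pos rfl, Pi.single_eq_same]; norm_num
    · rw [if_neg hpq, Pi.single_eq_of_ne (Ne.symm hpq)]; norm_num
  · intro r _ hr
    rw [Pi.single_eq_of_ne (Ne.symm hr)]; norm_num
  · intro h; exact absurd (Finset.mem_univ _) h

theorem F_I_I : F I I = 24 := by
  nth_rewrite 2 [I_eq]
  rw [map_sum]
  simp only [map_smul, F_I_sv, if_true, smul_eq_mul]
  rw [Finset.sum_const, Finset.card_univ]
  have : Fintype.card GolayPt = 24 := by decide
  rw [this]; norm_num

/-! ### Small vectors -/

/-- A symmetric matrix unit as a vector of the span. -/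
theorem mem_span_iff_sv (w : V) (h : w ∈ Submodule.span ℚ (Set.range u)) :
    w ∈ Submodule.span ℚ {w | ∃ p q, w = sv p q} := by
  induction h using Submodule.span_induction with
  | mem w hw =>
    obtain ⟨v, rfl⟩ := hw
    show uq (rt v) ∈ _
    rw [uq_eq]
    exact Submodule.sum_mem _ fun p _ => Submodule.sum_mem _ fun q _ =>
      Submodule.smul_mem _ _ (Submodule.subset_span ⟨p, q, rfl⟩)
  | zero => exact Submodule.zero_mem _
  | add a b _ _ ha hb => exact Submodule.add_mem _ ha hb
  | smul c a _ ha => exact Submodule.smul_mem _ _ ha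

end Cfsg.Agent.H850.Coord
end

-- part: H850/TauData
section
/-!
# The images of three matrix units under the triality element (helper850)
-/

set_option autoImplicit false
set_option maxRecDepth 100000
set_option Elab.async false

namespace Cfsg.Agent.H850.TauData

open Cfsg Cfsg.Agent.Monster.VecEngine Cfsg.Agent.Monster Cfsg.Agent.Monster.VecSpace
open Cfsg.Agent.MonsterX.ProgBase Cfsg.Agent.MonsterX.Space Cfsg.Agent.MonsterX.MatAct
open Cfsg.Agent.MonsterX.CoGens Cfsg.Agent.MonsterX.USide Cfsg.Agent.MonsterX.UOnto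
open Cfsg.Agent.MonsterX.Short Cfsg.Agent.MonsterX.LabPl Cfsg.Agent.MonsterX.ProgTable
open Cfsg.Agent.Monster.PauliBasic Cfsg.Agent.Monster.PauliPlanes
open Cfsg.Agent.MonsterX.KRows Cfsg.Agent.MonsterX.KAsm Cfsg.Agent.SporadicStructure.Co0Base
open Cfsg.Agent.MonsterX.KSide Cfsg.Agent.MonsterX.KLift Cfsg.Agent.MonsterX.KInst
open Cfsg.Agent.MonsterX.Conc Cfsg.Agent.MonsterX.InstData Cfsg.Agent.H850.Coord
open Cfsg.Agent.MonsterX
open Cfsg.Agent.SporadicA.M24Gens (pidx pidx_injective)

/-- The unit plane of a lane. -/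
noncomputable def laneB (l : ℕ) : Pl := .cons (Nat.shiftLeft 1 l) (.sgn 0)

/-- Minus the unit plane of a lane. -/
noncomputable def laneN (l : ℕ) : Pl := .sgn (Nat.shiftLeft 1 l)

theorem bt_one (l i : ℕ) : (bt (Nat.shiftLeft 1 l) i : ℚ) = if i = l then 1 else 0 := by
  unfold bt
  rw [show (Nat.shiftLeft 1 l) = 1 <<< l from rfl, Nat.one_shiftLeft, Nat.testBit_two_pow]
  by_cases h : i = l
  · subst h; simp
  · have h' : ¬ l = i := fun e => h e.symm
    simp [h, h']

theorem vecU_laneB (l : ℕ) (i : Lane U) : vecU ℚ U (laneB l) i = if i.1 = l then 1 else 0 := by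
  show ((bt (Nat.shiftLeft 1 l) i.1 + 2 * -bt 0 i.1 : ℤ) : ℚ) = _
  rw [bt_zero]
  push_cast
  rw [bt_one]
  ring

theorem vecU_laneN (l : ℕ) : vecU ℚ U (laneN l) = -vecU ℚ U (laneB l) := by
  funext i
  rw [Pi.neg_apply, vecU_laneB]
  show ((-bt (Nat.shiftLeft 1 l) i.1 : ℤ) : ℚ) = _
  push_cast
  rw [bt_one]

theorem vecV_laneN (l : ℕ) : vecV (laneN l) = -vecV (laneB l) := by
  unfold vecV
  rw [vecU_laneN, map_neg]

theorem vecV_laneB {l : ℕ} (hl : SL.testBit l = true) : vecV (laneB l) = Xv (labP 12 lab l) := by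
  have h1 := Xv_lab labFacts ⟨l, U_of_SL hl⟩ hl
  rw [← pr_val (Xv (labP 12 lab l)), h1]
  unfold vecV
  congr 1
  funext i
  rw [vecU_laneB]
  unfold e1
  by_cases h : i.1 = l
  · have h' : i = ⟨l, U_of_SL hl⟩ := Subtype.ext h
    rw [if_pos h, if_pos h']
  · have h' : ¬ i = ⟨l, U_of_SL hl⟩ := fun e => h (congrArg Subtype.val e)
    rw [if_neg h, if_neg h']

/-- The planes of a symmetric matrix unit. -/
noncomputable def svB (a b : ℕ) : Pl := add (laneB (ln a b)) (laneB (ln b a)) 0

theorem vecU_ln (p q : GolayPt) : vecU ℚ U (laneB (ln (pidx p) (pidx q))) = uv p q := by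
  funext i
  rw [vecU_laneB]
  rfl

theorem vecV_svB (p q : GolayPt) : vecV (svB (pidx p) (pidx q)) = sv p q := by
  unfold svB
  rw [vecV_add]
  apply Subtype.ext
  show (pr (vecU ℚ U _) : Lane U → ℚ) + (pr (vecU ℚ U _) : Lane U → ℚ) = uv p q + uv q p
  rw [pr_coe, pr_coe, vecU_ln, vecU_ln, tr_uv, tr_uv, ← smul_add]
  funext i
  simp only [Pi.smul_apply, Pi.add_apply, smul_eq_mul]
  ring

/-! ### The kernel computations -/

/-- `τ` on a matrix unit. -/
theorem t01 : W [40] (vecV (svB 0 1)) = W [] (vecV (add (laneN 62496) (laneN 62465) 0)) :=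
  W_eq_of_up (n := 4) (Cfsg.Agent.Monster.VecFast.check_of (by decide +kernel))

theorem t01' : W [40, 40] (vecV (svB 0 1)) = W [] (vecV (add (laneB 62496) (laneN 62465) 0)) :=
  W_eq_of_up (n := 4) (Cfsg.Agent.Monster.VecFast.check_of (by decide +kernel))

theorem t12 : W [40] (vecV (svB 1 2)) = W [] (vecV (add (laneN 62529) (laneN 62498) 0)) :=
  W_eq_of_up (n := 4) (Cfsg.Agent.Monster.VecFast.check_of (by decide +kernel))

theorem t12' : W [40, 40] (vecV (svB 1 2)) = W [] (vecV (add (laneB 62529) (laneN 62498) 0)) :=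
  W_eq_of_up (n := 4) (Cfsg.Agent.Monster.VecFast.check_of (by decide +kernel))

theorem t02 : W [40] (vecV (svB 0 2)) = W [] (vecV (add (laneN 62528) (laneN 62466) 0)) :=
  W_eq_of_up (n := 4) (Cfsg.Agent.Monster.VecFast.check_of (by decide +kernel))

theorem t02' : W [40, 40] (vecV (svB 0 2)) = W [] (vecV (add (laneB 62528) (laneN 62466) 0)) :=
  W_eq_of_up (n := 4) (Cfsg.Agent.Monster.VecFast.check_of (by decide +kernel))

theorem t00 : W [40] (vecV (svB 0 0)) = W [] (vecV (svB 0 0)) :=
  W_eq_of_up (n := 4) (Cfsg.Agent.Monster.VecFast.check_of (by decide +kernel))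

theorem SL_lanes : and (and (and (SL.testBit 62496) (SL.testBit 62465)) (and (SL.testBit 62529) (SL.testBit 62498)))
    (and (SL.testBit 62528) (SL.testBit 62466)) = true := by decide +kernel

/-- The coordinates of `(…, 4, …, -4, …)`. -/
def cc (a b k : ℕ) : ℤ := if k = a then 4 else if k = b then -4 else 0

theorem lv01 : ∀ a < 24, val (LaneVec.L a) 62465 = cc 0 1 a := by decide +kernel

theorem lv12 : ∀ a < 24, val (LaneVec.L a) 62498 = cc 1 2 a := by decide +kernel

theorem lv02 : ∀ a < 24, val (LaneVec.L a) 62466 = cc 0 2 a := by decide +kernel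

/-! ### Statements -/

/-- The first three points. -/
abbrev P0 : GolayPt := some 0
abbrev P1 : GolayPt := some 1
abbrev P2 : GolayPt := some 2

theorem h01 : P0 ≠ P1 := by decide
theorem h12 : P1 ≠ P2 := by decide
theorem h02 : P0 ≠ P2 := by decide

/-- The short element of a lane. -/
noncomputable def xl (l : ℕ) : Pauli 12 := labP 12 lab l

theorem SL1 : SL.testBit 62496 = true ∧ SL.testBit 62465 = true ∧ SL.testBit 62529 = true ∧
    SL.testBit 62498 = true ∧ SL.testBit 62528 = true ∧ SL.testBit 62466 = true := by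
  have h := SL_lanes
  change ((SL.testBit 62496 && SL.testBit 62465) && (SL.testBit 62529 && SL.testBit 62498) &&
    (SL.testBit 62528 && SL.testBit 62466)) = true at h
  simp only [Bool.and_eq_true] at h
  tauto

theorem xl_mem {l : ℕ} (h : SL.testBit l = true) : xl l ∈ Sh := labFacts.sh _ h

theorem W40 (v : V) : W [40] v = τ v := by rw [W_single]; rfl

theorem W4040 (v : V) : W [40, 40] v = τ (τ v) := by rw [W_cons, W_single]; rfl

theorem Wnil (v : V) : W [] v = v := by rw [W_nil]; rfl

theorem s01 : vecV (svB 0 1) = sv P0 P1 := vecV_svB P0 P1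
theorem s12 : vecV (svB 1 2) = sv P1 P2 := vecV_svB P1 P2
theorem s02 : vecV (svB 0 2) = sv P0 P2 := vecV_svB P0 P2
theorem s00 : vecV (svB 0 0) = sv P0 P0 := vecV_svB P0 P0

theorem τ01 : τ (sv P0 P1) = -Xv (xl 62496) + -Xv (xl 62465) := by
  have h := t01
  rw [W40, Wnil, s01, vecV_add, vecV_laneN, vecV_laneN, vecV_laneB SL1.1, vecV_laneB SL1.2.1] at h
  exact h

theorem ττ01 : τ (τ (sv P0 P1)) = Xv (xl 62496) + -Xv (xl 62465) := by
  have h := t01'
  rw [W4040, Wnil, s01, vecV_add, vecV_laneN, vecV_laneB SL1.1, vecV_laneB SL1.2.1] at h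
  exact h

theorem τ12 : τ (sv P1 P2) = -Xv (xl 62529) + -Xv (xl 62498) := by
  have h := t12
  rw [W40, Wnil, s12, vecV_add, vecV_laneN, vecV_laneN, vecV_laneB SL1.2.2.1,
    vecV_laneB SL1.2.2.2.1] at h
  exact h

theorem ττ12 : τ (τ (sv P1 P2)) = Xv (xl 62529) + -Xv (xl 62498) := by
  have h := t12'
  rw [W4040, Wnil, s12, vecV_add, vecV_laneN, vecV_laneB SL1.2.2.1, vecV_laneB SL1.2.2.2.1] at h
  exact h

theorem τ02 : τ (sv P0 P2) = -Xv (xl 62528) + -Xv (xl 62466) := by
  have h := t02
  rw [W40, Wnil, s02, vecV_add, vecV_laneN, vecV_laneN, vecV_laneB SL1.2.2.2.2.1,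
    vecV_laneB SL1.2.2.2.2.2] at h
  exact h

theorem ττ02 : τ (τ (sv P0 P2)) = Xv (xl 62528) + -Xv (xl 62466) := by
  have h := t02'
  rw [W4040, Wnil, s02, vecV_add, vecV_laneN, vecV_laneB SL1.2.2.2.2.1,
    vecV_laneB SL1.2.2.2.2.2] at h
  exact h

theorem τ00 : τ (sv P0 P0) = sv P0 P0 := by
  have h := t00
  rw [W40, Wnil, s00] at h
  exact h

theorem half (a b : V) : (-1 / 2 : ℚ) • ((-a + -b) + (a + -b)) = b := by
  have e1 : (-2 : ℚ) • b = -((2 : ℚ) • b) := neg_smul (2 : ℚ) b
  have e : (-a + -b) + (a + -b) = (-2 : ℚ) • b := by rw [e1, two_smul]; abel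
  rw [e, smul_smul]
  norm_num

theorem X01_eq : Xv (xl 62465) = (-1 / 2 : ℚ) • (τ (sv P0 P1) + τ (τ (sv P0 P1))) := by
  rw [τ01, map_add, map_neg, map_neg]
  have h := ττ01
  rw [τ01, map_add, map_neg, map_neg] at h
  rw [h, half]

theorem X12_eq : Xv (xl 62498) = (-1 / 2 : ℚ) • (τ (sv P1 P2) + τ (τ (sv P1 P2))) := by
  have h := ττ12
  rw [h, τ12, half]

theorem X02_eq : Xv (xl 62466) = (-1 / 2 : ℚ) • (τ (sv P0 P2) + τ (τ (sv P0 P2))) := by
  have h := ττ02
  rw [h, τ02, half]

theorem lvec_eq {l a b : ℕ} (p q : GolayPt) (hl : SL.testBit l = true) (hp : pidx p = a) (hq : pidx q = b)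
    (hpq : p ≠ q) (h : ∀ k < 24, val (LaneVec.L k) l = cc a b k) :
    LaneVec.lv l = Cfsg.Agent.Leech.TransPair.v0 p q hpq := by
  apply Subtype.ext
  rw [LaneVec.lv_coe (by rw [← LaneEq.SL_eq]; exact hl)]
  funext i
  rw [LaneVec.lvec_apply]
  have h2 : Cfsg.Agent.LeechMat.Code.pos i = pidx i := by cases i <;> rfl
  rw [h2, h _ (pidx_lt i)]
  unfold cc
  by_cases h1 : i = p
  · subst h1
    rw [if_pos hp, Cfsg.Agent.Leech.TransPair.v0_left]
  · have h1' : pidx i ≠ a := fun e => h1 (pidx_injective (e.trans hp.symm))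
    rw [if_neg h1']
    by_cases h3 : i = q
    · subst h3
      rw [if_pos hq, Cfsg.Agent.Leech.TransPair.v0_right]
    · have h3' : pidx i ≠ b := fun e => h3 (pidx_injective (e.trans hq.symm))
      rw [if_neg h3', Cfsg.Agent.Leech.TransPair.v0_other hpq h1 h3]

theorem lam01 : lam (xl 62465) = Cfsg.Agent.Leech.TransPair.v0 P0 P1 h01 ∨
    lam (xl 62465) = -Cfsg.Agent.Leech.TransPair.v0 P0 P1 h01 := by
  rw [← lvec_eq P0 P1 SL1.2.1 rfl rfl h01 lv01]
  exact LaneEq.lam_lab SL1.2.1

theorem lam12 : lam (xl 62498) = Cfsg.Agent.Leech.TransPair.v0 P1 P2 h12 ∨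
    lam (xl 62498) = -Cfsg.Agent.Leech.TransPair.v0 P1 P2 h12 := by
  rw [← lvec_eq P1 P2 SL1.2.2.2.1 rfl rfl h12 lv12]
  exact LaneEq.lam_lab SL1.2.2.2.1

theorem lam02 : lam (xl 62466) = Cfsg.Agent.Leech.TransPair.v0 P0 P2 h02 ∨
    lam (xl 62466) = -Cfsg.Agent.Leech.TransPair.v0 P0 P2 h02 := by
  rw [← lvec_eq P0 P2 SL1.2.2.2.2.2 rfl rfl h02 lv02]
  exact LaneEq.lam_lab SL1.2.2.2.2.2

end Cfsg.Agent.H850.TauData
end

-- part: H850/TriA
section
/-!
# Invariant trilinear forms on the space of the Griess algebra, abstract part (helper850)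

`TriLin B` : the function `B` is trilinear over the rationals, with values in a rational vector space.
`KInv M B` : moreover it is invariant under the subgroup `M.K` (`2^(1+24).Co1`).
The components of `B` on the pieces of `V` are compared with the characters of the extraspecial group.
-/

set_option autoImplicit false

namespace Cfsg.Agent.H850.TriA

open Cfsg Cfsg.Agent.LeechMat.Core Cfsg.Agent.MonsterX.KSide Cfsg.Agent.MonsterX.Lat
  Cfsg.Agent.MonsterX.KLift Cfsg.Agent.MonsterX.KSLat Cfsg.Agent.MonsterP.SChar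

/-- Trilinear maps, as functions. -/
structure TriLin {V R : Type*} [AddCommGroup V] [Module ℚ V] [AddCommGroup R] [Module ℚ R]
    (B : V → V → V → R) : Prop where
  add₁ : ∀ x x' y w, B (x + x') y w = B x y w + B x' y w
  add₂ : ∀ x y y' w, B x (y + y') w = B x y w + B x y' w
  add₃ : ∀ x y w w', B x y (w + w') = B x y w + B x y w'
  smul₁ : ∀ (c : ℚ) x y w, B (c • x) y w = c • B x y w
  smul₂ : ∀ (c : ℚ) x y w, B x (c • y) w = c • B x y w
  smul₃ : ∀ (c : ℚ) x y w, B x y (c • w) = c • B x y w

theorem eq_zero_of_eq_neg {R : Type*} [AddCommGroup R] [Module ℚ R] {r : R} (h : r = -r) : r = 0 := by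
  have h2 : (2 : ℚ) • r = 0 := by
    rw [two_smul]
    nth_rewrite 1 [h]
    exact neg_add_cancel r
  exact (smul_eq_zero.1 h2).resolve_left two_ne_zero

namespace TriLin

section

variable {V R : Type*} [AddCommGroup V] [Module ℚ V] [AddCommGroup R] [Module ℚ R]
  {B : V → V → V → R} (h : TriLin B)
include h

theorem s12 : TriLin fun x y w => B y x w where
  add₁ x x' y w := h.add₂ y x x' w
  add₂ x y y' w := h.add₁ y y' x w
  add₃ x y w w' := h.add₃ y x w w'
  smul₁ c x y w := h.smul₂ c y x w
  smul₂ c x y w := h.smul₁ c y x w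
  smul₃ c x y w := h.smul₃ c y x w

theorem s23 : TriLin fun x y w => B x w y where
  add₁ x x' y w := h.add₁ x x' w y
  add₂ x y y' w := h.add₃ x w y y'
  add₃ x y w w' := h.add₂ x w w' y
  smul₁ c x y w := h.smul₁ c x w y
  smul₂ c x y w := h.smul₃ c x w y
  smul₃ c x y w := h.smul₂ c x w y

/-- The linear map `x ↦ B x y w`. -/
def l₁ (y w : V) : V →ₗ[ℚ] R where
  toFun x := B x y w
  map_add' x x' := h.add₁ x x' y w
  map_smul' c x := h.smul₁ c x y w

/-- The linear map `y ↦ B x y w`. -/
def l₂ (x w : V) : V →ₗ[ℚ] R where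
  toFun y := B x y w
  map_add' y y' := h.add₂ x y y' w
  map_smul' c y := h.smul₂ c x y w

/-- The linear map `w ↦ B x y w`. -/
def l₃ (x y : V) : V →ₗ[ℚ] R where
  toFun w := B x y w
  map_add' w w' := h.add₃ x y w w'
  map_smul' c w := h.smul₃ c x y w

@[simp] theorem l₁_apply (x y w : V) : h.l₁ y w x = B x y w := rfl
@[simp] theorem l₂_apply (x y w : V) : h.l₂ x w y = B x y w := rfl
@[simp] theorem l₃_apply (x y w : V) : h.l₃ x y w = B x y w := rfl

theorem neg₁ (x y w : V) : B (-x) y w = -B x y w := map_neg (h.l₁ y w) x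
theorem neg₂ (x y w : V) : B x (-y) w = -B x y w := map_neg (h.l₂ x w) y
theorem neg₃ (x y w : V) : B x y (-w) = -B x y w := map_neg (h.l₃ x y) w
theorem zero₁ (y w : V) : B 0 y w = 0 := map_zero (h.l₁ y w)
theorem zero₂ (x w : V) : B x 0 w = 0 := map_zero (h.l₂ x w)
theorem zero₃ (x y : V) : B x y 0 = 0 := map_zero (h.l₃ x y)

/-- A trilinear map which vanishes on generators vanishes on the spans. -/
theorem zero_of_span {S T U : Set V} (H : ∀ x ∈ S, ∀ y ∈ T, ∀ w ∈ U, B x y w = 0) :
    ∀ x ∈ Submodule.span ℚ S, ∀ y ∈ Submodule.span ℚ T, ∀ w ∈ Submodule.span ℚ U, B x y w = 0 := by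
  have h3 : ∀ x ∈ S, ∀ y ∈ T, ∀ w ∈ Submodule.span ℚ U, B x y w = 0 := by
    intro x hx y hy w hw
    induction hw using Submodule.span_induction with
    | mem w hw => exact H x hx y hy w hw
    | zero => exact h.zero₃ x y
    | add a b _ _ ha hb => rw [h.add₃, ha, hb, add_zero]
    | smul c a _ ha => rw [h.smul₃, ha, smul_zero]
  have h2 : ∀ x ∈ S, ∀ y ∈ Submodule.span ℚ T, ∀ w ∈ Submodule.span ℚ U, B x y w = 0 := by
    intro x hx y hy w hw
    induction hy using Submodule.span_induction with
    | mem y hy => exact h3 x hx y hy w hw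
    | zero => exact h.zero₂ x w
    | add a b _ _ ha hb => rw [h.add₂, ha, hb, add_zero]
    | smul c a _ ha => rw [h.smul₂, ha, smul_zero]
  intro x hx y hy w hw
  induction hx using Submodule.span_induction with
  | mem x hx => exact h2 x hx y hy w hw
  | zero => exact h.zero₁ y w
  | add a b _ _ ha hb => rw [h.add₁, ha, hb, add_zero]
  | smul c a _ ha => rw [h.smul₁, ha, smul_zero]

end

end TriLin

/-! ### Signs -/

/-- The sign of an element of `ZMod 2`. -/
def sg (c : ZMod 2) : ℚ := if c = 0 then 1 else -1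

theorem sg_zero : sg 0 = 1 := rfl

theorem sg_one : sg 1 = -1 := rfl

theorem sg_add (a b : ZMod 2) : sg (a + b) = sg a * sg b := by
  have hc : ∀ c : ZMod 2, c = 0 ∨ c = 1 := by decide
  rcases hc a with rfl | rfl <;> rcases hc b with rfl | rfl
  · rw [add_zero, sg_zero, one_mul]
  · rw [zero_add, sg_zero, one_mul]
  · rw [add_zero, sg_zero, mul_one]
  · rw [show (1 : ZMod 2) + 1 = 0 by decide, sg_zero, sg_one]; norm_num

variable {G V P W R : Type*} [Group G] [AddCommGroup V] [Module ℚ V]
  [DistribMulAction G V] [SMulCommClass G ℚ V] [Group P] [AddCommGroup W] [Module ℚ W]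
  [AddCommGroup R] [Module ℚ R]

section

variable (M : KS G V P W)

/-- The subspace of dimension 300. -/
def PP : Submodule ℚ V := Submodule.span ℚ (Set.range M.u)

/-- The action of the extraspecial group on the vectors `X x`. -/
theorem ι_X' (q : P) {x : P} (hx : x ∈ M.Sh) : M.ι q • M.X x = sg (chi M x q) • M.X x := by
  rw [M.ι_X q x hx]
  rcases chi_cases M x q with h | h
  · rw [h, sg_zero, one_smul, (chi_eq_zero M).1 h]
  · rw [h, sg_one, neg_smul, one_smul, (chi_eq_one M).1 h, M.X_z x hx]

theorem ι_PP (q : P) {a : V} (ha : a ∈ PP M) : M.ι q • a = a := by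
  unfold PP at ha
  induction ha using Submodule.span_induction with
  | mem a ha => obtain ⟨v, rfl⟩ := ha; exact M.ι_u q v
  | zero => exact smul_zero _
  | add a b _ _ ha hb => rw [smul_add, ha, hb]
  | smul c a _ ha => rw [smul_comm, ha]

theorem u_mem (v : leechLattice) : M.u v ∈ PP M := Submodule.subset_span ⟨v, rfl⟩

end

/-- Trilinear and invariant under `K`. -/
structure KInv (M : KS G V P W) (B : V → V → V → R) : Prop where
  lin : TriLin B
  inv : ∀ k ∈ M.K, ∀ x y w, B (k • x) (k • y) (k • w) = B x y w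

namespace KInv

variable {M : KS G V P W} {θ : leechLattice → P} {B : V → V → V → R}

theorem s12 (h : KInv M B) : KInv M fun x y w => B y x w :=
  ⟨h.lin.s12, fun k hk x y w => h.inv k hk y x w⟩

theorem s23 (h : KInv M B) : KInv M fun x y w => B x w y :=
  ⟨h.lin.s23, fun k hk x y w => h.inv k hk x w y⟩

/-- Two vectors of the 300-part and one of the 98280-part. -/
theorem ppx (h : KInv M B) (L : Lift M θ) {a b : V} (ha : a ∈ PP M) (hb : b ∈ PP M) {x : P}
    (hx : x ∈ M.Sh) : B a b (M.X x) = 0 := by
  obtain ⟨q, hq⟩ := nc_of_mem L hx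
  have h1 := h.inv _ (M.ι_mem q) a b (M.X x)
  rw [ι_PP M q ha, ι_PP M q hb, ι_X' M q hx, hq, sg_one, h.lin.smul₃, neg_smul, one_smul] at h1
  exact eq_zero_of_eq_neg h1.symm

/-- One vector of the 300-part and two different ones of the 98280-part. -/
theorem pxx (h : KInv M B) (L : Lift M θ) {a : V} (ha : a ∈ PP M) {x y : P}
    (hx : x ∈ M.Sh) (hy : y ∈ M.Sh) (h1 : y ≠ x) (h2 : y ≠ M.zc * x) :
    B a (M.X x) (M.X y) = 0 := by
  have hn : NC M (x * y) := by
    by_contra hcon
    unfold NC at hcon
    push Not at hcon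
    have h3 : ∀ q, x * y * q = q * (x * y) := fun q => by
      have h4 := (chi_cases M (x * y) q).resolve_right (hcon q)
      rw [chi_eq_zero] at h4
      exact (mul_inv_eq_iff_eq_mul.1 h4).symm
    have hxx := L.sh_sq x hx
    rcases L.center _ h3 with h4 | h4
    · apply h1
      rw [← mul_right_inj x, h4, hxx]
    · apply h2
      rw [← mul_right_inj x, h4, ← mul_assoc, ← M.zc_comm, mul_assoc, hxx, mul_one]
  obtain ⟨q, hq⟩ := hn
  rw [chi_mul_left] at hq
  have h3 := h.inv _ (M.ι_mem q) a (M.X x) (M.X y)
  rw [ι_PP M q ha, ι_X' M q hx, ι_X' M q hy, h.lin.smul₂, h.lin.smul₃, smul_smul, ← sg_add, hq, sg_one,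
    neg_smul, one_smul] at h3
  exact eq_zero_of_eq_neg h3.symm

/-- Three vectors of the 98280-part. -/
theorem xxx (h : KInv M B) (L : Lift M θ) {x y t : P} (hx : x ∈ M.Sh) (hy : y ∈ M.Sh)
    (ht : t ∈ M.Sh) (h1 : ¬ Eqz M t (x * y)) : B (M.X x) (M.X y) (M.X t) = 0 := by
  have hn : NC M (x * y * t) := by
    by_contra hcon
    unfold NC at hcon
    push Not at hcon
    have h3 : ∀ q, x * y * t * q = q * (x * y * t) := fun q => by
      have h4 := (chi_cases M (x * y * t) q).resolve_right (hcon q)
      rw [chi_eq_zero] at h4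
      exact (mul_inv_eq_iff_eq_mul.1 h4).symm
    have htt := L.sh_sq t ht
    apply h1
    rcases L.center _ h3 with h4 | h4
    · left
      rw [← mul_left_inj t, h4, htt]
    · right
      rw [← mul_left_inj t, mul_assoc M.zc, h4, htt, M.zc_mul]
  obtain ⟨q, hq⟩ := hn
  rw [chi_mul_left, chi_mul_left] at hq
  have h3 := h.inv _ (M.ι_mem q) (M.X x) (M.X y) (M.X t)
  rw [ι_X' M q hx, ι_X' M q hy, ι_X' M q ht, h.lin.smul₁, h.lin.smul₂, h.lin.smul₃, smul_smul, smul_smul,
    ← sg_add, ← sg_add, hq, sg_one, neg_smul, one_smul] at h3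
  exact eq_zero_of_eq_neg h3.symm

end KInv

/-! ### Short products -/

/-- If the product of two short elements is short, they are adjacent. -/
theorem ad_of_mul {M : KS G V P W} {θ : leechLattice → P} (L : Lift M θ) {x y : P} (hx : x ∈ M.Sh)
    (hy : y ∈ M.Sh) (hxy : x * y ∈ M.Sh) : Ad M x y := by
  have hnx := M.lam_norm x hx
  have hny := M.lam_norm y hy
  have hnt := M.lam_norm _ hxy
  -- the three vectors sum to twice a vector
  have h1 : Eqz M (θ (M.lam x + M.lam y + M.lam (x * y))) 1 := by
    have e1 : Eqz M (θ (M.lam x + M.lam y + M.lam (x * y)))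
        (θ (M.lam x + M.lam y) * θ (M.lam (x * y))) := L.add _ _
    have e2 : Eqz M (θ (M.lam x + M.lam y)) (θ (M.lam x) * θ (M.lam y)) := L.add _ _
    have e3 : Eqz M (θ (M.lam x) * θ (M.lam y)) (x * y) := Eqz.mul (L.lam x hx) (L.lam y hy)
    have e4 : Eqz M (θ (M.lam (x * y))) (x * y) := L.lam _ hxy
    have e5 : Eqz M (θ (M.lam x + M.lam y) * θ (M.lam (x * y))) (x * y * (x * y)) :=
      (e2.trans e3).mul e4
    have e6 := L.sh_sq _ hxy
    rw [e6] at e5
    exact e1.trans e5
  obtain ⟨w, hw⟩ := L.ker _ (by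
    rcases h1 with h | h
    · exact Or.inl h
    · right; rw [h, mul_one])
  -- `lam x + lam y` and `lam (x y)` are congruent
  set a := M.lam x with ha
  set b := M.lam y with hb
  set c := M.lam (x * y) with hc
  have hd : dot a b = 16 ∨ dot a b = -16 := by
    have key : ∀ b' : leechLattice, (∃ w, a + b' + c = 2 • w) → nrm b' = 32 →
        nrm (a + b') < 96 → nrm (a + b') = 32 := by
      rintro b' ⟨w, hw⟩ hb' hlt
      -- `a + b' + c = 2 w`, `a + b' - c = 2 (w - c)`
      have h2 : a + b' - c = 2 • (w - c) := by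
        rw [smul_sub, ← hw, two_smul]; abel
      have n1 : nrm (a + b' + c) = 4 * nrm w := by rw [hw, nrm_two]
      have n2 : nrm (a + b' - c) = 4 * nrm (w - c) := by rw [h2, nrm_two]
      rw [nrm_add] at n1
      rw [nrm_sub] at n2
      have n3 : nrm (a + b') + 32 = 2 * (nrm w + nrm (w - c)) := by linarith
      by_cases hw0 : w = 0
      · rw [hw0, nrm_zero] at n3 n1
        rw [hw0, smul_zero] at hw
        have : a + b' = -c := eq_neg_of_add_eq_zero_left hw
        rw [this, nrm_neg, hnt]
      · by_cases hw1 : w - c = 0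
        · rw [hw1, smul_zero, sub_eq_zero] at h2
          rw [h2, hnt]
        · have i1 := le_nrm hw0
          have i2 := le_nrm hw1
          omega
    have hdd : ∀ r : ℤ, dot a b = r → nrm (a + b) = 64 + 2 * r := by
      intro r hr
      rw [nrm_add, hnx, hny, hr]; ring
    have hdd' : ∀ r : ℤ, dot a b = r → nrm (a + -b) = 64 - 2 * r := by
      intro r hr
      rw [← sub_eq_add_neg, nrm_sub, hnx, hny, hr]; ring
    rcases le_total 0 (dot a b) with h0 | h0
    · -- use `a - b`
      by_cases h16 : (0 : ℤ) = dot a b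
      · have := key b ⟨w, hw⟩ hny (by rw [hdd _ h16.symm]; norm_num)
        rw [hdd _ h16.symm] at this
        norm_num at this
      · have hlt : nrm (a + -b) < 96 := by rw [hdd' _ rfl]; omega
        have := key (-b) ⟨w - b, by rw [smul_sub, ← hw, two_smul]; abel⟩ (by rw [nrm_neg, hny]) hlt
        rw [hdd' _ rfl] at this
        left; omega
    · have hlt : nrm (a + b) < 96 := by rw [hdd _ rfl]; omega
      have := key b ⟨w, hw⟩ hny hlt
      rw [hdd _ rfl] at this
      right; omega
  exact hd

end Cfsg.Agent.H850.TriA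
end

-- part: H850/Parity
section
/-!
# The values of an invariant trilinear form on the matrix units (helper850)

`PInv B` : a trilinear form, invariant under elements inducing all the elements of `Co0` on the 300-part and vanishing
if one of the arguments is the identity matrix.  `zero_of_odd` : a value on matrix units is zero if some point appears an
odd number of times.
-/

set_option autoImplicit false

namespace Cfsg.Agent.H850.Parity

open Cfsg Cfsg.Agent.MonsterX.Space Cfsg.Agent.MonsterX.USide Cfsg.Agent.MonsterX.UOnto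
open Cfsg.Agent.SporadicStructure.Co0Base Cfsg.Agent.Leech.Code
open Cfsg.Agent.H850.TriA Cfsg.Agent.H850.Coord

/-! ### Points -/

theorem exists_nm (s : Finset GolayPt) (h : s.card < 24) : ∃ p, p ∉ s := by
  by_contra hc
  push Not at hc
  have : s = Finset.univ := Finset.eq_univ_iff_forall.2 hc
  rw [this, Finset.card_univ, card_golayPt] at h
  omega

theorem exists_base {p q r : GolayPt} (h1 : p ≠ q) (h2 : p ≠ r) (h3 : q ≠ r) :
    ∃ σ ∈ M24, σ p = none ∧ σ q = some 0 ∧ σ r = some 1 := by
  obtain ⟨s, hs⟩ := exists_nm {p, q, r} (lt_of_le_of_lt Finset.card_le_three (by norm_num))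
  obtain ⟨t, ht⟩ := exists_nm {p, q, r, s} (lt_of_le_of_lt Finset.card_le_four (by norm_num))
  simp only [Finset.mem_insert, Finset.mem_singleton, not_or] at hs ht
  obtain ⟨s1, s2, s3⟩ := hs
  obtain ⟨t1, t2, t3, t4⟩ := ht
  have hinj : Function.Injective ![p, q, r, s, t] := by
    intro i j hij
    fin_cases i <;> fin_cases j <;> simp_all
  obtain ⟨h, hh, e0, e1, e2, -, -⟩ := Cfsg.Agent.SporadicA.M24Chain.exists_map_five _ hinj
  exact ⟨h, Cfsg.Agent.SporadicA.M24Chain.K_le_M24 hh, e0, e1, e2⟩

/-- The Mathieu group is 3-transitive. -/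
theorem exists_perm {p q r p' q' r' : GolayPt} (h1 : p ≠ q) (h2 : p ≠ r) (h3 : q ≠ r)
    (h1' : p' ≠ q') (h2' : p' ≠ r') (h3' : q' ≠ r') :
    ∃ σ ∈ M24, σ p = p' ∧ σ q = q' ∧ σ r = r' := by
  obtain ⟨σ, hσ, e0, e1, e2⟩ := exists_base h1 h2 h3
  obtain ⟨ρ, hρ, f0, f1, f2⟩ := exists_base h1' h2' h3'
  refine ⟨ρ⁻¹ * σ, mul_mem (inv_mem hρ) hσ, ?_, ?_, ?_⟩
  · rw [Equiv.Perm.mul_apply, e0, ← f0]; exact ρ.symm_apply_apply p'
  · rw [Equiv.Perm.mul_apply, e1, ← f1]; exact ρ.symm_apply_apply q'
  · rw [Equiv.Perm.mul_apply, e2, ← f2]; exact ρ.symm_apply_apply r'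

theorem exists_perm₂ {p q p' q' : GolayPt} (h1 : p ≠ q) (h1' : p' ≠ q') :
    ∃ σ ∈ M24, σ p = p' ∧ σ q = q' := by
  obtain ⟨r, hr⟩ := exists_nm {p, q} (lt_of_le_of_lt Finset.card_le_two (by norm_num))
  obtain ⟨r', hr'⟩ := exists_nm {p', q'} (lt_of_le_of_lt Finset.card_le_two (by norm_num))
  simp only [Finset.mem_insert, Finset.mem_singleton, not_or] at hr hr'
  obtain ⟨σ, hσ, e0, e1, -⟩ := exists_perm h1 (Ne.symm hr.1) (Ne.symm hr.2) h1' (Ne.symm hr'.1)
    (Ne.symm hr'.2)
  exact ⟨σ, hσ, e0, e1⟩

theorem exists_perm₁ (p p' : GolayPt) : ∃ σ ∈ M24, σ p = p' := by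
  obtain ⟨r, hr⟩ := exists_nm {p} (by rw [Finset.card_singleton]; norm_num)
  obtain ⟨r', hr'⟩ := exists_nm {p'} (by rw [Finset.card_singleton]; norm_num)
  simp only [Finset.mem_singleton] at hr hr'
  obtain ⟨σ, hσ, e0, -⟩ := exists_perm₂ (Ne.symm hr) (Ne.symm hr')
  exact ⟨σ, hσ, e0⟩

/-! ### The points appearing an odd number of times -/

/-- The points appearing an odd number of times. -/
def oddS (l : List GolayPt) : Finset GolayPt := l.foldr (fun x s => symmDiff {x} s) ∅

theorem oddS_cons (x : GolayPt) (l : List GolayPt) : oddS (x :: l) = symmDiff {x} (oddS l) := rfl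

theorem mem_oddS (x : GolayPt) (l : List GolayPt) : x ∈ oddS l ↔ Odd (l.count x) := by
  induction l with
  | nil => simp [oddS]
  | cons y l ih =>
    rw [oddS_cons, Finset.mem_symmDiff, Finset.mem_singleton, ih, List.count_cons]
    by_cases h : y = x
    · subst h
      simp only [beq_self_eq_true, if_true, Nat.odd_add_one, true_and, not_true, and_false, or_false]
    · have h' : ¬ x = y := fun e => h e.symm
      simp only [h, h', _root_.Nat.not_odd_iff_even, _root_.false_and, _root_.not_false_eq_true, _root_.and_true, _root_.false_or, _root_.beq_iff_eq, ↓ _root_.reduceIte, _root_.add_zero]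

theorem card_oddS (l : List GolayPt) : (oddS l).card ≤ l.length := by
  induction l with
  | nil => simp [oddS]
  | cons y l ih =>
    rw [oddS_cons, List.length_cons]
    calc (symmDiff {y} (oddS l)).card ≤ ({y} ∪ oddS l).card :=
          Finset.card_le_card (by
            intro t ht
            rw [Finset.mem_symmDiff] at ht
            rw [Finset.mem_union]
            tauto)
      _ ≤ ({y} : Finset GolayPt).card + (oddS l).card := Finset.card_union_le _ _
      _ ≤ l.length + 1 := by rw [Finset.card_singleton]; omega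

theorem prod_sn (c : Finset GolayPt) (l : List GolayPt) :
    (l.map (sn c)).prod = (-1) ^ (oddS l ∩ c).card := by
  induction l with
  | nil => simp [oddS]
  | cons y l ih =>
    rw [List.map_cons, List.prod_cons, ih, oddS_cons]
    by_cases hc : y ∈ c
    · have hs : sn c y = -1 := if_pos hc
      rw [hs]
      by_cases hy : y ∈ oddS l
      · have e : symmDiff {y} (oddS l) ∩ c = ((oddS l) ∩ c).erase y := by
          ext t
          rw [Finset.mem_inter, Finset.mem_symmDiff, Finset.mem_singleton, Finset.mem_erase,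
            Finset.mem_inter]
          by_cases ht : t = y
          · subst ht; tauto
          · (clear * - ht; tauto)
        have h1 := Finset.card_erase_add_one (Finset.mem_inter.2 ⟨hy, hc⟩)
        rw [e, ← h1, pow_succ]
        ring
      · have e : symmDiff {y} (oddS l) ∩ c = insert y ((oddS l) ∩ c) := by
          ext t
          rw [Finset.mem_inter, Finset.mem_symmDiff, Finset.mem_singleton, Finset.mem_insert,
            Finset.mem_inter]
          by_cases ht : t = y
          · subst ht; tauto
          · (clear * - ht; tauto)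
        rw [e, Finset.card_insert_of_notMem (fun h => hy (Finset.mem_inter.1 h).1), pow_succ]
        ring
    · have hs : sn c y = 1 := if_neg hc
      have e : symmDiff {y} (oddS l) ∩ c = (oddS l) ∩ c := by
        ext t
        rw [Finset.mem_inter, Finset.mem_symmDiff, Finset.mem_singleton, Finset.mem_inter]
        by_cases ht : t = y
        · subst ht; tauto
        · (clear * - ht; tauto)
      rw [hs, e, one_mul]

/-- Six points such that none appears an odd number of times. -/
theorem even_two {a b : GolayPt} (h : ∀ t : GolayPt, Even (([a, b] : List GolayPt).count t)) : a = b := by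
  by_contra hne
  have h1 := h a
  simp [List.count_cons, Ne.symm hne] at h1

theorem even_four {a b c d : GolayPt} (h : ∀ t : GolayPt, Even (([a, b, c, d] : List GolayPt).count t)) :
    (a = b ∧ c = d) ∨ (a = c ∧ b = d) ∨ (a = d ∧ b = c) := by
  have key : ∀ x y z w : GolayPt, x = y → (∀ t : GolayPt, ([a, b, c, d] : List GolayPt).count t =
      ([x, y, z, w] : List GolayPt).count t) → z = w := by
    intro x y z w hxy hc
    apply even_two
    intro t
    have h1 := h t
    rw [hc, hxy] at h1
    simp only [List.count_cons, List.count_nil] at h1 ⊢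
    rw [Nat.even_iff] at h1 ⊢
    omega
  by_cases h1 : a = b
  · exact Or.inl ⟨h1, key a b c d h1 fun t => rfl⟩
  by_cases h2 : a = c
  · refine Or.inr (Or.inl ⟨h2, key a c b d h2 fun t => ?_⟩)
    simp only [List.count_cons, List.count_nil]; omega
  by_cases h3 : a = d
  · refine Or.inr (Or.inr ⟨h3, key a d b c h3 fun t => ?_⟩)
    simp only [List.count_cons, List.count_nil]; omega
  exfalso
  have h4 := h a
  simp [List.count_cons, Ne.symm h1, Ne.symm h2, Ne.symm h3] at h4

theorem even_six {a b c d e f : GolayPt}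
    (h : ∀ t : GolayPt, Even (([a, b, c, d, e, f] : List GolayPt).count t)) :
    (a = b ∧ ((c = d ∧ e = f) ∨ (c = e ∧ d = f) ∨ (c = f ∧ d = e))) ∨
    (a = c ∧ ((b = d ∧ e = f) ∨ (b = e ∧ d = f) ∨ (b = f ∧ d = e))) ∨
    (a = d ∧ ((b = c ∧ e = f) ∨ (b = e ∧ c = f) ∨ (b = f ∧ c = e))) ∨
    (a = e ∧ ((b = c ∧ d = f) ∨ (b = d ∧ c = f) ∨ (b = f ∧ c = d))) ∨
    (a = f ∧ ((b = c ∧ d = e) ∨ (b = d ∧ c = e) ∨ (b = e ∧ c = d))) := by
  have key : ∀ x y z₁ z₂ z₃ z₄ : GolayPt, x = y →
      (∀ t : GolayPt, ([a, b, c, d, e, f] : List GolayPt).count t =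
      ([x, y, z₁, z₂, z₃, z₄] : List GolayPt).count t) →
      (z₁ = z₂ ∧ z₃ = z₄) ∨ (z₁ = z₃ ∧ z₂ = z₄) ∨ (z₁ = z₄ ∧ z₂ = z₃) := by
    intro x y z₁ z₂ z₃ z₄ hxy hc
    apply even_four
    intro t
    have h1 := h t
    rw [hc, hxy] at h1
    simp only [List.count_cons, List.count_nil] at h1 ⊢
    rw [Nat.even_iff] at h1 ⊢
    omega
  by_cases h1 : a = b
  · exact Or.inl ⟨h1, key a b c d e f h1 fun t => rfl⟩
  by_cases h2 : a = c
  · refine Or.inr (Or.inl ⟨h2, key a c b d e f h2 fun t => ?_⟩)
    simp only [List.count_cons, List.count_nil]; omega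
  by_cases h3 : a = d
  · refine Or.inr (Or.inr (Or.inl ⟨h3, key a d b c e f h3 fun t => ?_⟩))
    simp only [List.count_cons, List.count_nil]; omega
  by_cases h4 : a = e
  · refine Or.inr (Or.inr (Or.inr (Or.inl ⟨h4, key a e b c d f h4 fun t => ?_⟩)))
    simp only [List.count_cons, List.count_nil]; omega
  by_cases h5 : a = f
  · refine Or.inr (Or.inr (Or.inr (Or.inr ⟨h5, key a f b c d e h5 fun t => ?_⟩)))
    simp only [List.count_cons, List.count_nil]; omega
  exfalso
  have h6 := h a
  simp [List.count_cons, Ne.symm h1, Ne.symm h2, Ne.symm h3, Ne.symm h4, Ne.symm h5] at h6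

/-! ### Invariant forms on the 300-part -/

/-- A trilinear form, invariant under `C`, vanishing on the identity matrix. -/
structure PInv (B : V → V → V → ℝ) : Prop where
  lin : TriLin B
  inv : ∀ k ∈ Cfsg.Agent.MonsterX.Conc.C, ∀ x y w, B (k x) (k y) (k w) = B x y w
  id₁ : ∀ y w, B I y w = 0
  id₂ : ∀ x w, B x I w = 0
  id₃ : ∀ x y, B x y I = 0

section

variable {B : V → V → V → ℝ}

theorem PInv.s12 (h : PInv B) : PInv fun x y w => B y x w where
  lin := h.lin.s12
  inv k hk x y w := h.inv k hk y x w
  id₁ y w := h.id₂ y w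
  id₂ x w := h.id₁ x w
  id₃ x y := h.id₃ y x

theorem PInv.s23 (h : PInv B) : PInv fun x y w => B x w y where
  lin := h.lin.s23
  inv k hk x y w := h.inv k hk x w y
  id₁ y w := h.id₁ w y
  id₂ x w := h.id₃ x w
  id₃ x y := h.id₂ x y

theorem smulR (c : ℚ) (r : ℝ) : c • r = (c : ℝ) * r := Rat.smul_def c r

theorem sm₁ (h : TriLin B) (c : ℚ) (x y w : V) : B (c • x) y w = (c : ℝ) * B x y w := by
  rw [h.smul₁, smulR]

theorem sm₂ (h : TriLin B) (c : ℚ) (x y w : V) : B x (c • y) w = (c : ℝ) * B x y w := by
  rw [h.smul₂, smulR]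

theorem sm₃ (h : TriLin B) (c : ℚ) (x y w : V) : B x y (c • w) = (c : ℝ) * B x y w := by
  rw [h.smul₃, smulR]

/-- The signed permutations. -/
theorem PInv.mono (h : PInv B) {σ : Equiv.Perm GolayPt} (hσ : σ ∈ M24) {c : Finset GolayPt}
    (hc : c ∈ supports (golayCode : Set (GolayPt → ZMod 2))) (p q r s t u : GolayPt) :
    B (sv p q) (sv r s) (sv t u) = ((sn c (σ p) * sn c (σ q) * (sn c (σ r) * sn c (σ s)) *
      (sn c (σ t) * sn c (σ u)) : ℚ) : ℝ) * B (sv (σ p) (σ q)) (sv (σ r) (σ s)) (sv (σ t) (σ u)) := by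
  obtain ⟨k, hkC, hk⟩ := onto (monomial σ hσ c hc)
  rw [← h.inv k hkC, ind_sv σ hσ c hc hk, ind_sv σ hσ c hc hk, ind_sv σ hσ c hc hk, sm₁ h.lin,
    sm₂ h.lin, sm₃ h.lin]
  push_cast
  ring

/-- The permutations of the Mathieu group. -/
theorem PInv.perm (h : PInv B) {σ : Equiv.Perm GolayPt} (hσ : σ ∈ M24) (p q r s t u : GolayPt) :
    B (sv (σ p) (σ q)) (sv (σ r) (σ s)) (sv (σ t) (σ u)) = B (sv p q) (sv r s) (sv t u) := by
  rw [h.mono hσ empty_mem p q r s t u]
  have : ∀ x, sn ∅ x = 1 := fun x => if_neg (Finset.notMem_empty x)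
  simp only [this]
  norm_num

/-- A value is zero if a point appears an odd number of times. -/
theorem PInv.zero_of_odd (h : PInv B) {p q r s t u : GolayPt} (x : GolayPt)
    (hx : Odd (([p, q, r, s, t, u] : List GolayPt).count x)) : B (sv p q) (sv r s) (sv t u) = 0 := by
  by_contra hne
  have hw : oddS [p, q, r, s, t, u] ∈ Words := by
    apply mem_of_even_inter
    intro c hc
    have h1 := h.mono (σ := 1) M24.one_mem hc p q r s t u
    simp only [Equiv.Perm.one_apply] at h1
    have h2 := prod_sn c [p, q, r, s, t, u]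
    simp only [List.map_cons, List.map_nil, List.prod_cons, List.prod_nil, mul_one] at h2
    have h3 : sn c p * sn c q * (sn c r * sn c s) * (sn c t * sn c u) =
        (-1) ^ (oddS [p, q, r, s, t, u] ∩ c).card := by rw [← h2]; ring
    rw [h3] at h1
    have h4 : (((-1) ^ (oddS [p, q, r, s, t, u] ∩ c).card : ℚ) : ℝ) = 1 := by
      have h5 : ((((-1) ^ (oddS [p, q, r, s, t, u] ∩ c).card : ℚ) : ℝ) - 1) *
          B (sv p q) (sv r s) (sv t u) = 0 := by linarith
      rcases mul_eq_zero.1 h5 with h6 | h6
      · linarith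
      · exact absurd h6 hne
    by_contra hodd
    rw [Nat.not_even_iff_odd] at hodd
    rw [hodd.neg_one_pow] at h4
    norm_num at h4
  have hmem : x ∈ oddS [p, q, r, s, t, u] := (mem_oddS _ _).2 hx
  have h8 := eight_le_card hw ⟨x, hmem⟩
  have h6 := card_oddS [p, q, r, s, t, u]
  simp only [List.length_cons, List.length_nil] at h6
  omega

end

end Cfsg.Agent.H850.Parity
end

-- part: H850/Func
section
/-!
# The functionals on the 300-part invariant under the stabiliser of a minimal vector (helper850)
-/

set_option autoImplicit false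

namespace Cfsg.Agent.H850.Func

open Cfsg Cfsg.Agent.MonsterX.Space Cfsg.Agent.MonsterX.USide Cfsg.Agent.MonsterX.UOnto
open Cfsg.Agent.SporadicStructure.Co0Base Cfsg.Agent.Leech.Code
open Cfsg.Agent.MonsterX.KSide Cfsg.Agent.MonsterX.Lat Cfsg.Agent.MonsterX.CoGens
open Cfsg.Agent.Leech.Trans Cfsg.Agent.Leech.TransPair Cfsg.Agent.Leech.Co0Elts
open Cfsg.Agent.H850.TriA Cfsg.Agent.H850.Coord Cfsg.Agent.H850.Parity

/-- The form on the complement of the identity matrix. -/
noncomputable def F' (x w : V) : ℚ := F x w - F x I * F I w / 24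

theorem rt_lv (p q : GolayPt) (a b : ℤ) (h : p ≠ q) (ha : a = 4 ∨ a = -4) (hb : b = 4 ∨ b = -4) :
    rt (lv p q a b h ha hb) = Pi.single p (a : ℚ) + Pi.single q (b : ℚ) := by
  funext i
  show (((lv p q a b h ha hb : leechLattice) : GolayPt → ℤ) i : ℚ) = _
  rw [lv_coe, Pi.add_apply]
  by_cases hp : i = p
  · subst hp
    rw [two_left, Pi.single_eq_same, Pi.single_eq_of_ne h, add_zero]
  · by_cases hq : i = q
    · subst hq
      rw [two_right h, Pi.single_eq_same, Pi.single_eq_of_ne (Ne.symm h), zero_add]
    · rw [two_other hp hq, Pi.single_eq_of_ne hp, Pi.single_eq_of_ne hq, add_zero, Int.cast_zero]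

theorem u_pp {p q : GolayPt} (h : p ≠ q) : u (lv p q 4 4 h four_or four_or) =
    (1 / 2 : ℚ) • sv p p + (1 / 2 : ℚ) • sv q q + sv p q := by
  show uq (rt _) = _
  rw [rt_lv, uq_two]
  norm_num

theorem u_pm {p q : GolayPt} (h : p ≠ q) : u (lv p q 4 (-4) h four_or neg_four_or) =
    (1 / 2 : ℚ) • sv p p + (1 / 2 : ℚ) • sv q q - sv p q := by
  show uq (rt _) = _
  have e : ((4 : ℤ) : ℚ) * (((-4 : ℤ)) : ℚ) / 16 = -1 := by norm_num
  have e2 : (-1 : ℚ) • sv p q = -sv p q := neg_one_smul ℚ (sv p q)
  rw [rt_lv, uq_two, e, e2, ← sub_eq_add_neg]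
  norm_num only []

theorem u_v0 {p q : GolayPt} (h : p ≠ q) : u (v0 p q h) =
    (1 / 2 : ℚ) • sv p p + (1 / 2 : ℚ) • sv q q - sv p q := u_pm h

theorem u_neg' (v : leechLattice) : u (-v) = u v := by
  show uq (rt (-v)) = uq (rt v)
  have h : rt (-v) = (-1 : ℚ) • rt v := by
    funext p
    show ((((-v : leechLattice) : GolayPt → ℤ) p : ℤ) : ℚ) = (-1 : ℚ) * (((v : GolayPt → ℤ) p : ℤ) : ℚ)
    rw [AddSubgroup.coe_neg, Pi.neg_apply]
    push_cast; ring
  rw [h, uq_eq, uq_eq]
  refine Finset.sum_congr rfl fun p _ => Finset.sum_congr rfl fun q _ => ?_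
  rw [Pi.smul_apply, Pi.smul_apply, smul_eq_mul, smul_eq_mul]
  congr 1; ring

theorem nrm_lv (p q : GolayPt) (a b : ℤ) (h : p ≠ q) (ha : a = 4 ∨ a = -4) (hb : b = 4 ∨ b = -4) :
    nrm (lv p q a b h ha hb) = 32 := sqNorm_lv _ _ _ _ _ _ _

theorem F'_v0_sv {p q : GolayPt} (h : p ≠ q) (i j : GolayPt) : F' (u (v0 p q h)) (sv i j) =
    rt (v0 p q h) i * rt (v0 p q h) j / 8 - (if i = j then 1 / 6 else 0) := by
  unfold F'
  have h1 : F (u (v0 p q h)) I = 2 := by
    show F (uq (rt _)) I = 2
    rw [F_uq_I]
    have h2 : (∑ i, rt (v0 p q h) i ^ 2) = 32 := by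
      have h3 := dot_rt (v0 p q h) (v0 p q h)
      have h4 : dotInt (v0 p q h : GolayPt → ℤ) (v0 p q h : GolayPt → ℤ) = 32 := by
        have h5 : dot (v0 p q h) (v0 p q h) = nrm (v0 p q h) := KS.dot_self _
        rw [MonsterP.LeechTriple.nrm_v0] at h5
        exact h5
      rw [h4] at h3
      rw [show (32 : ℚ) = ((32 : ℤ) : ℚ) by norm_num, h3]
      exact Finset.sum_congr rfl fun i _ => by rw [sq]
    rw [h2]; norm_num
  rw [h1, F_I_sv]
  show F (uq (rt _)) (sv i j) - _ = _
  rw [F_uq_sv]
  split_ifs <;> norm_num only [_root_.sub_zero]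

/-- The values of a functional constant on the orbits of the stabiliser of `v0 p q`. -/
theorem classify₀ {p q : GolayPt} (hpq : p ≠ q) (f : V →ₗ[ℚ] ℝ)
    (hf : ∀ A : Co0, A • v0 p q hpq = v0 p q hpq → ∀ v, f (u (A • v)) = f (u v)) (hI : f I = 0) :
    ∃ κ : ℝ, ∀ w ∈ Submodule.span ℚ (Set.range u), f w = κ * F' (u (v0 p q hpq)) w := by
  -- inner product `0`
  have H0 : ∀ v v' : leechLattice, nrm v = 32 → nrm v' = 32 → dot (v0 p q hpq) v = 0 →
      dot (v0 p q hpq) v' = 0 → f (u v) = f (u v') := by
    intro v v' h1 h2 h3 h4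
    obtain ⟨g, hg1, hg2⟩ := MonsterP.LeechPairs.exists_pair_zero _ v _ v'
      (MonsterP.LeechTriple.nrm_v0 hpq) h1 (MonsterP.LeechTriple.nrm_v0 hpq) h2 h3 h4
    rw [← hg2, hf g hg1]
  have H16 : ∀ v v' : leechLattice, nrm v = 32 → nrm v' = 32 →
      (dot (v0 p q hpq) v = 16 ∨ dot (v0 p q hpq) v = -16) →
      (dot (v0 p q hpq) v' = 16 ∨ dot (v0 p q hpq) v' = -16) → f (u v) = f (u v') := by
    have key : ∀ v v' : leechLattice, nrm v = 32 → nrm v' = 32 →
      dot (v0 p q hpq) v = 16 → dot (v0 p q hpq) v' = 16 → f (u v) = f (u v') := by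
      intro v v' h1 h2 h3 h4
      obtain ⟨g, hg1, hg2⟩ := MonsterP.LeechTriple.exists_pair _ v _ v'
        (MonsterP.LeechTriple.nrm_v0 hpq) h1 (MonsterP.LeechTriple.nrm_v0 hpq) h2 h3 h4
      rw [← hg2, hf g hg1]
    have neg : ∀ v : leechLattice, dot (v0 p q hpq) v = -16 → dot (v0 p q hpq) (-v) = 16 := by
      intro v h
      rw [dot_neg_right, h]; rfl
    intro v v' h1 h2 h3 h4
    rcases h3 with h3 | h3 <;> rcases h4 with h4 | h4
    · exact key v v' h1 h2 h3 h4
    · rw [← u_neg' v']
      exact key v (-v') h1 (by rw [nrm_neg, h2]) h3 (neg _ h4)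
    · rw [← u_neg' v]
      exact key (-v) v' (by rw [nrm_neg, h1]) h2 (neg _ h3) h4
    · rw [← u_neg' v', ← u_neg' v]
      exact key (-v) (-v') (by rw [nrm_neg, h1]) (by rw [nrm_neg, h2]) (neg _ h3) (neg _ h4)
  -- the dot products
  have D : ∀ (k l : GolayPt) (b : ℤ) (hkl : k ≠ l) (hb : b = 4 ∨ b = -4),
      dot (v0 p q hpq) (lv k l 4 b hkl four_or hb) =
        4 * ((if p = k then 4 else if p = l then b else 0) -
        (if q = k then 4 else if q = l then b else 0)) := by
    intro k l b hkl hb
    rw [MonsterP.LeechTriple.dot_v0', lv_coe]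
    rfl
  set β : ℝ := f (u (lv p q 4 4 hpq four_or four_or)) with hβ
  have hsm : ∀ (c : ℚ) (w : V), f (c • w) = (c : ℝ) * f w := fun c w => by
    rw [map_smul, smulR]
  -- orthogonal pairs
  have P0 : ∀ k l : GolayPt, k ≠ l → k ≠ p → k ≠ q → l ≠ p → l ≠ q →
      f (sv k l) = 0 ∧ f (sv k k) + f (sv l l) = 2 * β := by
    intro k l hkl hkp hkq hlp hlq
    have e1 := H0 (lv k l 4 4 hkl four_or four_or) (lv p q 4 4 hpq four_or four_or)
      (nrm_lv _ _ _ _ _ _ _) (nrm_lv _ _ _ _ _ _ _)
      (by rw [D]; simp [Ne.symm hkp, Ne.symm hkq, Ne.symm hlp, Ne.symm hlq])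
      (by rw [D]; simp [Ne.symm hpq])
    have e2 := H0 (lv k l 4 (-4) hkl four_or neg_four_or) (lv p q 4 4 hpq four_or four_or)
      (nrm_lv _ _ _ _ _ _ _) (nrm_lv _ _ _ _ _ _ _)
      (by rw [D]; simp [Ne.symm hkp, Ne.symm hkq, Ne.symm hlp, Ne.symm hlq])
      (by rw [D]; simp [Ne.symm hpq])
    rw [← hβ, u_pp, map_add, map_add, hsm, hsm] at e1
    rw [← hβ, u_pm, map_sub, map_add, hsm, hsm] at e2
    push_cast at e1 e2
    constructor <;> linarith
  obtain ⟨r, hr⟩ := exists_nm {p, q} (lt_of_le_of_lt Finset.card_le_two (by norm_num))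
  obtain ⟨s, hs⟩ := exists_nm {p, q, r} (lt_of_le_of_lt Finset.card_le_three (by norm_num))
  obtain ⟨t, ht⟩ := exists_nm {p, q, r, s} (lt_of_le_of_lt Finset.card_le_four (by norm_num))
  simp only [Finset.mem_insert, Finset.mem_singleton, not_or] at hr hs ht
  have hD : ∀ k, k ≠ p → k ≠ q → f (sv k k) = β := by
    have hrr : f (sv r r) = β := by
      have e1 := (P0 r s (Ne.symm hs.2.2) hr.1 hr.2 hs.1 hs.2.1).2
      have e2 := (P0 r t (Ne.symm ht.2.2.1) hr.1 hr.2 ht.1 ht.2.1).2
      have e3 := (P0 s t (Ne.symm ht.2.2.2) hs.1 hs.2.1 ht.1 ht.2.1).2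
      linarith
    intro k hkp hkq
    by_cases hkr : k = r
    · rw [hkr]; exact hrr
    · have e1 := (P0 k r hkr hkp hkq hr.1 hr.2).2
      linarith
  set α : ℝ := f (u (lv p r 4 4 (Ne.symm hr.1) four_or four_or)) with hα
  have P1 : ∀ k l : GolayPt, k ≠ l → (k = p ∨ k = q) → l ≠ p → l ≠ q →
      f (sv k l) = 0 ∧ f (sv k k) = 2 * α - β := by
    intro k l hkl hk hlp hlq
    have hd : ∀ (b : ℤ) (hb : b = 4 ∨ b = -4), (dot (v0 p q hpq) (lv k l 4 b hkl four_or hb) = 16 ∨
        dot (v0 p q hpq) (lv k l 4 b hkl four_or hb) = -16) := by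
      intro b hb
      rw [D]
      rcases hk with hk | hk
      · left
        rw [if_pos hk.symm, if_neg (fun h => hpq (by rw [h, hk])), if_neg (Ne.symm hlq)]
        norm_num
      · right
        rw [if_neg (fun h => hpq (by rw [h, hk])), if_neg (Ne.symm hlp), if_pos hk.symm]
        norm_num
    have hd0 : (dot (v0 p q hpq) (lv p r 4 4 (Ne.symm hr.1) four_or four_or) = 16 ∨
        dot (v0 p q hpq) (lv p r 4 4 (Ne.symm hr.1) four_or four_or) = -16) := by
      left
      rw [D, if_pos rfl, if_neg (Ne.symm hpq), if_neg (Ne.symm hr.2)]; norm_num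
    have e1 := H16 (lv k l 4 4 hkl four_or four_or) (lv p r 4 4 (Ne.symm hr.1) four_or four_or)
      (nrm_lv _ _ _ _ _ _ _) (nrm_lv _ _ _ _ _ _ _) (hd 4 four_or) hd0
    have e2 := H16 (lv k l 4 (-4) hkl four_or neg_four_or) (lv p r 4 4 (Ne.symm hr.1) four_or four_or)
      (nrm_lv _ _ _ _ _ _ _) (nrm_lv _ _ _ _ _ _ _) (hd (-4) neg_four_or) hd0
    rw [← hα, u_pp, map_add, map_add, hsm, hsm] at e1
    rw [← hα, u_pm, map_sub, map_add, hsm, hsm] at e2
    have e3 := hD l hlp hlq
    rw [e3] at e1 e2
    push_cast at e1 e2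
    constructor <;> linarith
  have hpp : f (sv p p) = 2 * α - β := (P1 p r (Ne.symm hr.1) (Or.inl rfl) hr.1 hr.2).2
  have hqq : f (sv q q) = 2 * α - β := (P1 q r (Ne.symm hr.2) (Or.inr rfl) hr.1 hr.2).2
  have hspq : f (sv p q) = 2 * β - 2 * α := by
    have e := hβ
    rw [u_pp, map_add, map_add, hsm, hsm, hpp, hqq] at e
    push_cast at e
    linarith
  have hαβ : α = -5 * β := by
    rw [I_eq, map_sum] at hI
    have e : ∀ k : GolayPt, f ((1 / 2 : ℚ) • sv k k) = β / 2 + (if k = p then α - β else 0) +
        (if k = q then α - β else 0) := by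
      intro k
      rw [hsm]
      by_cases hkp : k = p
      · have hkq : k ≠ q := fun h => hpq (hkp ▸ h)
        rw [if_pos hkp, if_neg hkq, hkp, hpp]; push_cast; ring
      · by_cases hkq : k = q
        · rw [if_neg hkp, if_pos hkq, hkq, hqq]; push_cast; ring
        · rw [if_neg hkp, if_neg hkq, hD k hkp hkq]; push_cast; ring
    simp only [e, Finset.sum_add_distrib, Finset.sum_const, Finset.card_univ, card_golayPt,
      Finset.sum_ite_eq', Finset.mem_univ, if_true, nsmul_eq_mul] at hI
    push_cast at hI
    linarith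
  refine ⟨-6 * β, fun w hw => ?_⟩
  have hw' := mem_span_iff_sv w hw
  clear hw
  induction hw' using Submodule.span_induction with
  | mem w hw =>
    obtain ⟨i, j, rfl⟩ := hw
    rw [F'_v0_sv]
    have hrt : ∀ i, rt (v0 p q hpq) i = if i = p then 4 else if i = q then -4 else 0 := by
      intro i
      show (((v0 p q hpq : leechLattice) : GolayPt → ℤ) i : ℚ) = _
      by_cases h1 : i = p
      · rw [if_pos h1, h1, v0_left]; norm_num
      · by_cases h2 : i = q
        · rw [if_neg h1, if_pos h2, h2, v0_right]; norm_num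
        · rw [if_neg h1, if_neg h2, v0_other hpq h1 h2]; norm_num
    rw [hrt, hrt]
    by_cases hij : i = j
    · subst hij
      rw [if_pos rfl]
      by_cases h1 : i = p
      · rw [if_pos h1, h1, hpp, hαβ]; push_cast; ring
      · by_cases h2 : i = q
        · rw [if_neg h1, if_pos h2, h2, hqq, hαβ]; push_cast; ring
        · rw [if_neg h1, if_neg h2, hD i h1 h2]; push_cast; ring
    · rw [if_neg hij]
      by_cases h1 : i = p
      · have h1j : j ≠ p := fun h => hij (h1.trans h.symm)
        by_cases h2 : j = q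
        · rw [if_pos h1, if_neg h1j, if_pos h2, h1, h2, hspq, hαβ]; push_cast; ring
        · rw [if_pos h1, if_neg h1j, if_neg h2, (P1 i j hij (Or.inl h1) h1j h2).1]; push_cast; ring
      · by_cases h2 : i = q
        · have h2j : j ≠ q := fun h => hij (h2.trans h.symm)
          by_cases h3 : j = p
          · rw [if_neg h1, if_pos h2, if_pos h3, h2, h3, sv_comm, hspq, hαβ]; push_cast; ring
          · rw [if_neg h1, if_pos h2, if_neg h3, if_neg h2j, (P1 i j hij (Or.inr h2) h3 h2j).1]
            push_cast; ring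
        · rw [if_neg h1, if_neg h2]
          by_cases h3 : j = p ∨ j = q
          · rw [sv_comm, (P1 j i (Ne.symm hij) h3 h1 h2).1]; push_cast; ring
          · rw [not_or] at h3
            rw [(P0 i j hij h1 h2 h3.1 h3.2).1]; push_cast; ring
  | zero => unfold F'; simp
  | add a b _ _ ha hb =>
    rw [map_add, ha, hb]
    unfold F'
    rw [map_add, map_add]; push_cast; ring
  | smul c a _ ha =>
    rw [hsm, ha]
    unfold F'
    rw [map_smul, map_smul, smul_eq_mul, smul_eq_mul]; push_cast; ring

end Cfsg.Agent.H850.Func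
end

-- part: H850/Diag
section
/-!
# An invariant trilinear form vanishing on one diagonal type vanishes on the 300-part (helper850)
-/

set_option autoImplicit false
set_option linter.unusedSimpArgs false

namespace Cfsg.Agent.H850.Diag

open Cfsg Cfsg.Agent.MonsterX.Space Cfsg.Agent.MonsterX.USide Cfsg.Agent.MonsterX.UOnto
open Cfsg.Agent.SporadicStructure.Co0Base Cfsg.Agent.Leech.Code
open Cfsg.Agent.MonsterX.KSide Cfsg.Agent.MonsterX.Lat Cfsg.Agent.MonsterX.CoGens
open Cfsg.Agent.Leech.Trans Cfsg.Agent.Leech.TransPair Cfsg.Agent.Leech.Co0Elts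
open Cfsg.Agent.H850.TriA Cfsg.Agent.H850.Coord Cfsg.Agent.H850.Parity Cfsg.Agent.H850.Func

/-- The 300-part. -/
noncomputable abbrev Pu : Submodule ℚ V := Submodule.span ℚ (Set.range u)

theorem u_mem (v : leechLattice) : u v ∈ Pu := Submodule.subset_span ⟨v, rfl⟩

theorem C_I {k : V ≃ₗ[ℚ] V} (hk : k ∈ MonsterX.Conc.C) : k I = I := by
  unfold MonsterX.Conc.C at hk
  induction hk using Subgroup.closure_induction with
  | mem g hg =>
    obtain ⟨n, hn, rfl⟩ := hg
    exact MonsterX.FieldsO.fix_idB n (by omega)
  | one => rfl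
  | mul a b _ _ ha hb => rw [LinearEquiv.mul_apply, hb, ha]
  | inv a _ ha =>
    have h1 : a⁻¹ (a I) = I := a.symm_apply_apply _
    rwa [ha] at h1

theorem C_F' {k : V ≃ₗ[ℚ] V} (hk : k ∈ MonsterX.Conc.C) (x y : V) : F' (k x) (k y) = F' x y := by
  unfold F'
  have h1 : F (k x) I = F x I := by
    nth_rewrite 1 [← C_I hk]; exact MonsterX.Conc.C_isom k hk x I
  have h2 : F I (k y) = F I y := by
    nth_rewrite 1 [← C_I hk]; exact MonsterX.Conc.C_isom k hk I y
  rw [h1, h2, MonsterX.Conc.C_isom k hk]

theorem C_Pu {k : V ≃ₗ[ℚ] V} (hk : k ∈ MonsterX.Conc.C) {w : V} (hw : w ∈ Pu) : k w ∈ Pu := by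
  obtain ⟨A, hA⟩ := exists_ind k hk
  induction hw using Submodule.span_induction with
  | mem w hw => obtain ⟨v, rfl⟩ := hw; rw [hA]; exact u_mem _
  | zero => rw [map_zero]; exact Submodule.zero_mem _
  | add a b _ _ ha hb => rw [map_add]; exact Submodule.add_mem _ ha hb
  | smul c a _ ha => rw [map_smul]; exact Submodule.smul_mem _ _ ha

variable {B : V → V → V → ℝ}

/-- The values on a repeated vector `u v`. -/
theorem kappa (h : PInv B) : ∃ κ : ℝ, ∀ v : leechLattice, nrm v = 32 → ∀ w ∈ Pu,
    B (u v) (u v) w = κ * F' (u v) w := by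
  obtain ⟨p, hp⟩ := exists_nm ∅ (by simp)
  obtain ⟨q, hq⟩ := exists_nm {p} (by simp)
  simp only [Finset.mem_singleton] at hq
  have hpq : p ≠ q := Ne.symm hq
  obtain ⟨κ, hκ⟩ := classify₀ hpq (h.lin.l₃ (u (v0 p q hpq)) (u (v0 p q hpq))) (by
    intro A hA v
    obtain ⟨k, hkC, hk⟩ := onto A
    show B _ _ (u (A • v)) = B _ _ (u v)
    have e : u (v0 p q hpq) = k (u (v0 p q hpq)) := by rw [hk, hA]
    rw [← hk v]
    nth_rewrite 1 [e]
    nth_rewrite 2 [e]
    exact h.inv k hkC _ _ _) (h.id₃ _ _)
  refine ⟨κ, fun v hv w hw => ?_⟩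
  obtain ⟨g, hg⟩ := co0_transitive_min (v0 p q hpq) v (MonsterP.LeechTriple.nrm_v0 hpq) hv
  obtain ⟨k, hkC, hk⟩ := onto g
  have e : u v = k (u (v0 p q hpq)) := by rw [hk, hg]
  have ew : w = k (k⁻¹ w) := (k.apply_symm_apply w).symm
  have hw' : k⁻¹ w ∈ Pu := C_Pu (inv_mem hkC) hw
  have h1 := hκ _ hw'
  rw [e, ew, C_F' hkC, ← h1]
  exact h.inv k hkC _ _ _

theorem sum₁ (h : TriLin B) {ι : Type*} (s : Finset ι) (f : ι → V) (y w : V) :
    B (∑ i ∈ s, f i) y w = ∑ i ∈ s, B (f i) y w := map_sum (h.l₁ y w) f s

theorem sum₂ (h : TriLin B) {ι : Type*} (s : Finset ι) (f : ι → V) (x w : V) :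
    B x (∑ i ∈ s, f i) w = ∑ i ∈ s, B x (f i) w := map_sum (h.l₂ x w) f s

theorem sum₃ (h : TriLin B) {ι : Type*} (s : Finset ι) (f : ι → V) (x y : V) :
    B x y (∑ i ∈ s, f i) = ∑ i ∈ s, B x y (f i) := map_sum (h.l₃ x y) f s

theorem tr₃ (h : PInv B) (x y : V) : ∑ k, B x y (sv k k) = 0 := by
  have h1 := h.id₃ x y
  rw [I_eq, sum₃ h.lin] at h1
  simp only [sm₃ h.lin] at h1
  rw [← Finset.mul_sum] at h1
  push_cast at h1
  linarith

/-- Two values on the diagonal. -/
theorem rel_d (h : PInv B) {p q : GolayPt} (hpq : p ≠ q) :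
    B (sv p p) (sv p p) (sv p p) = -23 * B (sv p p) (sv p p) (sv q q) := by
  have h1 := tr₃ h (sv p p) (sv p p)
  have e : ∀ k : GolayPt, B (sv p p) (sv p p) (sv k k) = B (sv p p) (sv p p) (sv q q) +
      (if k = p then B (sv p p) (sv p p) (sv p p) - B (sv p p) (sv p p) (sv q q) else 0) := by
    intro k
    by_cases hk : k = p
    · rw [if_pos hk, hk]; ring
    · rw [if_neg hk, add_zero]
      obtain ⟨σ, hσ, e1, e2⟩ := exists_perm₂ (Ne.symm hk) hpq
      have := h.perm hσ p p p p k k
      rw [e1, e2] at this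
      exact this.symm
  rw [Finset.sum_congr rfl fun k _ => e k] at h1
  rw [Finset.sum_add_distrib, Finset.sum_const, Finset.card_univ, card_golayPt,
    Finset.sum_ite_eq' , if_pos (Finset.mem_univ _), nsmul_eq_mul] at h1
  push_cast at h1
  linarith

theorem swap_pt {p q : GolayPt} (hpq : p ≠ q) : ∃ σ ∈ M24, σ p = q ∧ σ q = p :=
  exists_perm₂ hpq (Ne.symm hpq)

/-- The third value on the diagonal. -/
theorem rel_d' (h : PInv B) {p q r : GolayPt} (hpq : p ≠ q) (hpr : p ≠ r) (hqr : q ≠ r) :
    22 * B (sv p p) (sv q q) (sv r r) =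
      - B (sv p p) (sv q q) (sv p p) - B (sv q q) (sv p p) (sv p p) := by
  have h1 := tr₃ h (sv p p) (sv q q)
  have hqq : B (sv p p) (sv q q) (sv q q) = B (sv q q) (sv p p) (sv p p) := by
    obtain ⟨σ, hσ, e1, e2⟩ := swap_pt hpq
    have := h.perm hσ p p q q q q
    rw [e1, e2] at this
    exact this.symm
  have e : ∀ k : GolayPt, B (sv p p) (sv q q) (sv k k) = B (sv p p) (sv q q) (sv r r) +
      (if k = p then B (sv p p) (sv q q) (sv p p) - B (sv p p) (sv q q) (sv r r) else 0) +
      (if k = q then B (sv q q) (sv p p) (sv p p) - B (sv p p) (sv q q) (sv r r) else 0) := by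
    intro k
    by_cases hk : k = p
    · have hkq : k ≠ q := fun h => hpq (hk ▸ h)
      rw [if_pos hk, if_neg hkq, hk]; ring
    · by_cases hkq : k = q
      · rw [if_neg hk, if_pos hkq, hkq, hqq]; ring
      · rw [if_neg hk, if_neg hkq, add_zero, add_zero]
        obtain ⟨σ, hσ, e1, e2, e3⟩ := exists_perm hpq (Ne.symm hk) (Ne.symm hkq) hpq hpr hqr
        have := h.perm hσ p p q q k k
        rw [e1, e2, e3] at this
        exact this.symm
  rw [Finset.sum_congr rfl fun k _ => e k] at h1
  rw [Finset.sum_add_distrib, Finset.sum_add_distrib, Finset.sum_const, Finset.card_univ, card_golayPt,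
    Finset.sum_ite_eq' , if_pos (Finset.mem_univ _), Finset.sum_ite_eq' , if_pos (Finset.mem_univ _),
    nsmul_eq_mul] at h1
  push_cast at h1
  linarith

/-- The values on a loop and a double edge. -/
theorem rel_e (h : PInv B) {p q r : GolayPt} (hpq : p ≠ q) (hpr : p ≠ r) (hqr : q ≠ r) :
    11 * B (sv p q) (sv p q) (sv r r) = - B (sv p q) (sv p q) (sv p p) ∧
      B (sv p q) (sv p q) (sv q q) = B (sv p q) (sv p q) (sv p p) := by
  have hqq : B (sv p q) (sv p q) (sv q q) = B (sv p q) (sv p q) (sv p p) := by
    obtain ⟨σ, hσ, e1, e2⟩ := swap_pt hpq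
    have := h.perm hσ p q p q p p
    rw [e1, e2, sv_comm q p] at this
    exact this
  refine ⟨?_, hqq⟩
  have h1 := tr₃ h (sv p q) (sv p q)
  have e : ∀ k : GolayPt, B (sv p q) (sv p q) (sv k k) = B (sv p q) (sv p q) (sv r r) +
      (if k = p then B (sv p q) (sv p q) (sv p p) - B (sv p q) (sv p q) (sv r r) else 0) +
      (if k = q then B (sv p q) (sv p q) (sv p p) - B (sv p q) (sv p q) (sv r r) else 0) := by
    intro k
    by_cases hk : k = p
    · have hkq : k ≠ q := fun h => hpq (hk ▸ h)
      rw [if_pos hk, if_neg hkq, hk]; ring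
    · by_cases hkq : k = q
      · rw [if_neg hk, if_pos hkq, hkq, hqq]; ring
      · rw [if_neg hk, if_neg hkq, add_zero, add_zero]
        obtain ⟨σ, hσ, e1, e2, e3⟩ := exists_perm hpq (Ne.symm hk) (Ne.symm hkq) hpq hpr hqr
        have := h.perm hσ p q p q k k
        rw [e1, e2, e3] at this
        exact this.symm
  rw [Finset.sum_congr rfl fun k _ => e k] at h1
  rw [Finset.sum_add_distrib, Finset.sum_add_distrib, Finset.sum_const, Finset.card_univ, card_golayPt,
    Finset.sum_ite_eq' , if_pos (Finset.mem_univ _), Finset.sum_ite_eq' , if_pos (Finset.mem_univ _),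
    nsmul_eq_mul] at h1
  push_cast at h1
  linarith

theorem F'_v0_pp {p q : GolayPt} (h : p ≠ q) : F' (u (v0 p q h)) (sv p p) = 11 / 6 := by
  rw [F'_v0_sv, if_pos rfl]
  have : rt (v0 p q h) p = 4 := by
    show (((v0 p q h : leechLattice) : GolayPt → ℤ) p : ℚ) = _
    rw [v0_left]; norm_num
  rw [this]; norm_num

theorem F'_v0_pq {p q : GolayPt} (h : p ≠ q) : F' (u (v0 p q h)) (sv p q) = -2 := by
  rw [F'_v0_sv, if_neg h]
  have h1 : rt (v0 p q h) p = 4 := by
    show (((v0 p q h : leechLattice) : GolayPt → ℤ) p : ℚ) = _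
    rw [v0_left]; norm_num
  have h2 : rt (v0 p q h) q = -4 := by
    show (((v0 p q h : leechLattice) : GolayPt → ℤ) q : ℚ) = _
    rw [v0_right]; norm_num
  rw [h1, h2]; norm_num

/-- The relation between the values coming from the vectors `u v`, and the constant. -/
theorem rel_k (h : PInv B) {p q : GolayPt} (hpq : p ≠ q) {κ : ℝ}
    (hκ : ∀ v : leechLattice, nrm v = 32 → ∀ w ∈ Pu, B (u v) (u v) w = κ * F' (u v) w) :
    2 * κ = B (sv p p) (sv p q) (sv p q) + B (sv p q) (sv p p) (sv p q) ∧
    κ * (11 / 6) = B (sv p q) (sv p q) (sv p p) +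
      (B (sv p p) (sv p p) (sv p p) + B (sv p p) (sv q q) (sv p p) + B (sv q q) (sv p p) (sv p p) +
        B (sv p p) (sv p p) (sv q q)) / 4 := by
  have z : ∀ (a b c d e f : GolayPt) (x : GolayPt), Odd (([a, b, c, d, e, f] : List GolayPt).count x) →
      B (sv a b) (sv c d) (sv e f) = 0 := fun a b c d e f x hx => h.zero_of_odd x hx
  have hs : ∀ a b c d e f a' b' c' d' e' f' : GolayPt, (∃ σ ∈ M24, σ a = a' ∧ σ b = b' ∧ σ c = c' ∧
      σ d = d' ∧ σ e = e' ∧ σ f = f') →
      B (sv a' b') (sv c' d') (sv e' f') = B (sv a b) (sv c d) (sv e f) := by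
    rintro a b c d e f a' b' c' d' e' f' ⟨σ, hσ, rfl, rfl, rfl, rfl, rfl, rfl⟩
    exact h.perm hσ a b c d e f
  constructor
  · have h1 := hκ (v0 p q hpq) (MonsterP.LeechTriple.nrm_v0 hpq) (sv p q) (sv_mem p q)
    rw [F'_v0_pq, u_v0, sub_eq_add_neg, ← neg_one_smul ℚ (sv p q)] at h1
    simp only [h.lin.add₁, h.lin.add₂, sm₁ h.lin, sm₂ h.lin] at h1
    rw [z p p p p p q q (by simp [List.count_cons, hpq]), z p p q q p q p (by
        simp [List.count_cons, Ne.symm hpq, Nat.odd_iff]),
      z q q p p p q p (by simp [List.count_cons, Ne.symm hpq, Nat.odd_iff]),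
      z q q q q p q p (by simp [List.count_cons, Ne.symm hpq]),
      z p q p q p q p (by simp [List.count_cons, Ne.symm hpq, Nat.odd_iff])] at h1
    have e1 : B (sv q q) (sv p q) (sv p q) = B (sv p p) (sv p q) (sv p q) := by
      obtain ⟨σ, hσ, e1, e2⟩ := swap_pt hpq
      have := h.perm hσ p p p q p q
      rwa [e1, e2, sv_comm q p] at this
    have e2 : B (sv p q) (sv q q) (sv p q) = B (sv p q) (sv p p) (sv p q) := by
      obtain ⟨σ, hσ, e1, e2⟩ := swap_pt hpq
      have := h.perm hσ p q p p p q
      rwa [e1, e2, sv_comm q p] at this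
    rw [e1, e2] at h1
    push_cast at h1
    linarith
  · have h1 := hκ (v0 p q hpq) (MonsterP.LeechTriple.nrm_v0 hpq) (sv p p) (sv_mem p p)
    rw [F'_v0_pp, u_v0, sub_eq_add_neg, ← neg_one_smul ℚ (sv p q)] at h1
    simp only [h.lin.add₁, h.lin.add₂, sm₁ h.lin, sm₂ h.lin] at h1
    rw [z p p p q p p q (by simp [List.count_cons, hpq]),
      z q q p q p p q (by simp [List.count_cons, hpq, Nat.odd_iff]),
      z p q p p p p q (by simp [List.count_cons, hpq]),
      z p q q q p p q (by simp [List.count_cons, hpq, Nat.odd_iff])] at h1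
    have e1 : B (sv q q) (sv q q) (sv p p) = B (sv p p) (sv p p) (sv q q) := by
      obtain ⟨σ, hσ, e1, e2⟩ := swap_pt hpq
      have := h.perm hσ p p p p q q
      rwa [e1, e2] at this
    rw [e1] at h1
    push_cast at h1
    linarith

end Cfsg.Agent.H850.Diag
end

-- part: H850/Diag2
section
/-!
# An invariant trilinear form vanishing on one diagonal type vanishes on the 300-part (helper850)
-/

set_option autoImplicit false
set_option linter.unusedSimpArgs false

namespace Cfsg.Agent.H850.Diag2

open Cfsg Cfsg.Agent.MonsterX.Space Cfsg.Agent.MonsterX.USide Cfsg.Agent.MonsterX.UOnto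
open Cfsg.Agent.SporadicStructure.Co0Base Cfsg.Agent.Leech.Code
open Cfsg.Agent.MonsterX.KSide Cfsg.Agent.MonsterX.Lat Cfsg.Agent.MonsterX.CoGens
open Cfsg.Agent.Leech.Trans Cfsg.Agent.Leech.TransPair Cfsg.Agent.Leech.Co0Elts
open Cfsg.Agent.H850.TriA Cfsg.Agent.H850.Coord Cfsg.Agent.H850.Parity Cfsg.Agent.H850.Func
open Cfsg.Agent.H850.Diag

variable {B : V → V → V → ℝ}

/-- Everything on the diagonal vanishes. -/
theorem zeros (h : PInv B) {p q : GolayPt} (hpq : p ≠ q)
    (he : B (sv p p) (sv p q) (sv p q) = 0) :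
    B (sv p q) (sv p p) (sv p q) = 0 ∧ B (sv p q) (sv p q) (sv p p) = 0 ∧
    B (sv p p) (sv p p) (sv p p) = 0 ∧ B (sv p p) (sv p p) (sv q q) = 0 ∧
    B (sv p p) (sv q q) (sv p p) = 0 ∧ B (sv q q) (sv p p) (sv p p) = 0 := by
  obtain ⟨κ₃, hκ₃⟩ := kappa h
  obtain ⟨κ₂, hκ₂⟩ := kappa h.s23
  obtain ⟨κ₁, hκ₁⟩ := kappa h.s12.s23
  have a1 := rel_k h hpq hκ₃
  have a2 := rel_k h.s23 hpq hκ₂
  have a3 := rel_k h.s12.s23 hpq hκ₁
  have b1 := rel_d h hpq
  have b2 := rel_d h.s23 hpq
  have b3 := rel_d h.s12.s23 hpq
  obtain ⟨a1, c1⟩ := a1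
  obtain ⟨a2, c2⟩ := a2
  obtain ⟨a3, c3⟩ := a3
  refine ⟨?_, ?_, ?_, ?_, ?_, ?_⟩ <;> linarith

theorem LLL (h : PInv B) {p q : GolayPt} (hpq : p ≠ q)
    (h0 : B (sv p p) (sv p p) (sv p p) = 0) (h3 : B (sv p p) (sv p p) (sv q q) = 0)
    (h2 : B (sv p p) (sv q q) (sv p p) = 0) (h1 : B (sv q q) (sv p p) (sv p p) = 0)
    (a b c : GolayPt) : B (sv a a) (sv b b) (sv c c) = 0 := by
  have H3 : ∀ a b, a ≠ b → B (sv a a) (sv a a) (sv b b) = 0 := by
    intro a b hab
    obtain ⟨σ, hσ, e1, e2⟩ := exists_perm₂ hpq hab
    have := h.perm hσ p p p p q q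
    rw [e1, e2, h3] at this
    exact this
  have H2 : ∀ a b, a ≠ b → B (sv a a) (sv b b) (sv a a) = 0 := by
    intro a b hab
    obtain ⟨σ, hσ, e1, e2⟩ := exists_perm₂ hpq hab
    have := h.perm hσ p p q q p p
    rw [e1, e2, h2] at this
    exact this
  have H1 : ∀ a b, a ≠ b → B (sv b b) (sv a a) (sv a a) = 0 := by
    intro a b hab
    obtain ⟨σ, hσ, e1, e2⟩ := exists_perm₂ hpq hab
    have := h.perm hσ q q p p p p
    rw [e1, e2, h1] at this
    exact this
  by_cases hab : a = b
  · subst hab
    by_cases hac : a = c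
    · subst hac
      obtain ⟨σ, hσ, e1⟩ := exists_perm₁ p a
      have := h.perm hσ p p p p p p
      rw [e1, h0] at this
      exact this
    · exact H3 a c hac
  · by_cases hac : a = c
    · subst hac
      exact H2 a b hab
    · by_cases hbc : b = c
      · subst hbc
        exact H1 b a (Ne.symm hab)
      · have := rel_d' h hab hac hbc
        rw [H2 a b hab, H1 a b hab] at this
        linarith

theorem EEL (h : PInv B) {p q : GolayPt} (hpq : p ≠ q) (hL : ∀ a b, B (sv a a) (sv a a) (sv b b) = 0)
    (h0 : B (sv p q) (sv p q) (sv p p) = 0) (a b c : GolayPt) : B (sv a b) (sv a b) (sv c c) = 0 := by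
  by_cases hab : a = b
  · subst hab; exact hL a c
  have H : B (sv a b) (sv a b) (sv a a) = 0 := by
    obtain ⟨σ, hσ, e1, e2⟩ := exists_perm₂ hpq hab
    have := h.perm hσ p q p q p p
    rw [e1, e2, h0] at this
    exact this
  by_cases hac : a = c
  · subst hac; exact H
  by_cases hbc : b = c
  · subst hbc
    obtain ⟨r, hr⟩ := exists_nm {a, b} (lt_of_le_of_lt Finset.card_le_two (by norm_num))
    simp only [Finset.mem_insert, Finset.mem_singleton, not_or] at hr
    have := (rel_e h hab (Ne.symm hr.1) (Ne.symm hr.2)).2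
    rw [this, H]
  · have := (rel_e h hab hac hbc).1
    rw [H] at this
    linarith

theorem bq_single_left (p : GolayPt) (s : ℚ) (y : GolayPt → ℚ) :
    bq (Pi.single p s) y = ∑ k, (s * y k / 16) • sv p k := by
  unfold bq
  rw [Finset.sum_eq_single p]
  · rw [Pi.single_eq_same]
  · intro r _ hr
    refine Finset.sum_eq_zero fun k _ => ?_
    rw [Pi.single_eq_of_ne hr, zero_mul, zero_div, zero_smul]
  · intro h; exact absurd (Finset.mem_univ _) h

/-- The vector `(-3, 1, ..., 1)`. -/
def m3 (p : GolayPt) : leechLattice := ⟨_, minus3_mem p⟩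

theorem m3_coe (p j : GolayPt) : (m3 p : GolayPt → ℤ) j = if j = p then -3 else 1 := rfl

theorem nrm_m3 (p : GolayPt) : nrm (m3 p) = 32 := by
  show sqNorm (m3 p : GolayPt → ℤ) = 32
  unfold sqNorm
  have : ∀ j, (m3 p : GolayPt → ℤ) j ^ 2 = 1 + if j = p then 8 else 0 := by
    intro j
    rw [m3_coe]
    split_ifs <;> norm_num
  simp only [this, Finset.sum_add_distrib, Finset.sum_const, Finset.card_univ, card_golayPt,
    Finset.sum_ite_eq', Finset.mem_univ, if_true]
  norm_num

theorem tri_zero (h : PInv B)
    (hE1 : ∀ a b c, B (sv c c) (sv a b) (sv a b) = 0) (hE2 : ∀ a b c, B (sv a b) (sv c c) (sv a b) = 0)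
    (hκ : ∀ v : leechLattice, nrm v = 32 → ∀ w ∈ Pu, B (u v) (u v) w = 0)
    {p q r : GolayPt} (hpq : p ≠ q) (hpr : p ≠ r) (hqr : q ≠ r) :
    B (sv p r) (sv q r) (sv p q) = 0 := by
  have z : ∀ (a b c d e f : GolayPt) (x : GolayPt), Odd (([a, b, c, d, e, f] : List GolayPt).count x) →
      B (sv a b) (sv c d) (sv e f) = 0 := fun a b c d e f x hx => h.zero_of_odd x hx
  let y : GolayPt → ℚ := fun k => if k = p ∨ k = q then 0 else 1
  have hy : ∀ k, y k = if k = p ∨ k = q then 0 else 1 := fun _ => rfl
  have hx : rt (m3 p) = (Pi.single p (-3) + Pi.single q 1) + y := by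
    funext k
    show (((m3 p : leechLattice) : GolayPt → ℤ) k : ℚ) = _
    rw [m3_coe, Pi.add_apply, Pi.add_apply, hy]
    by_cases hk : k = p
    · subst hk
      rw [if_pos rfl, Pi.single_eq_same, Pi.single_eq_of_ne hpq, if_pos (Or.inl rfl)]; norm_num
    · by_cases hkq : k = q
      · subst hkq
        rw [if_neg hk, Pi.single_eq_of_ne hk, Pi.single_eq_same, if_pos (Or.inr rfl)]; norm_num
      · rw [if_neg hk, Pi.single_eq_of_ne hk, Pi.single_eq_of_ne hkq, if_neg (by tauto)]; norm_num
  set α : GolayPt → ℚ := Pi.single p (-3) + Pi.single q 1 with hα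
  -- the three sets
  let A : Set V := {w | w = sv p p ∨ w = sv q q ∨ w = sv p q}
  let Y : Set V := {w | ∃ k l, (k ≠ p ∧ k ≠ q) ∧ (l ≠ p ∧ l ≠ q) ∧ w = sv k l}
  let Mx : Set V := {w | ∃ k, (k ≠ p ∧ k ≠ q) ∧ (w = sv p k ∨ w = sv q k)}
  let T : Set V := {sv p q}
  have mA : uq α ∈ Submodule.span ℚ A := by
    rw [hα, uq_two]
    refine Submodule.add_mem _ (Submodule.add_mem _ ?_ ?_) ?_ <;>
      refine Submodule.smul_mem _ _ (Submodule.subset_span ?_)
    · exact Or.inl rfl
    · exact Or.inr (Or.inl rfl)
    · exact Or.inr (Or.inr rfl)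
  have mY : uq y ∈ Submodule.span ℚ Y := by
    rw [uq_eq]
    refine Submodule.sum_mem _ fun k _ => Submodule.sum_mem _ fun l _ => ?_
    rw [hy, hy]
    by_cases hk : k = p ∨ k = q
    · rw [if_pos hk, zero_mul, zero_div, zero_smul]; exact Submodule.zero_mem _
    · by_cases hl : l = p ∨ l = q
      · rw [if_pos hl, mul_zero, zero_div, zero_smul]; exact Submodule.zero_mem _
      · rw [not_or] at hk hl
        exact Submodule.smul_mem _ _ (Submodule.subset_span ⟨k, l, hk, hl, rfl⟩)
  let m : GolayPt → V := fun k => if k = p ∨ k = q then 0 else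
    (-3 / 16 : ℚ) • sv p k + (1 / 16 : ℚ) • sv q k
  have hm : ∀ k, m k = if k = p ∨ k = q then 0 else
    (-3 / 16 : ℚ) • sv p k + (1 / 16 : ℚ) • sv q k := fun _ => rfl
  have em : bq α y = ∑ k, m k := by
    rw [hα, bq_add_left, bq_single_left, bq_single_left, ← Finset.sum_add_distrib]
    refine Finset.sum_congr rfl fun k _ => ?_
    rw [hm, hy]
    split_ifs
    · simp
    · norm_num only []
  have mM : bq α y ∈ Submodule.span ℚ Mx := by
    rw [em]
    refine Submodule.sum_mem _ fun k _ => ?_
    rw [hm]
    split_ifs with hk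
    · exact Submodule.zero_mem _
    · rw [not_or] at hk
      exact Submodule.add_mem _
        (Submodule.smul_mem _ _ (Submodule.subset_span ⟨k, hk, Or.inl rfl⟩))
        (Submodule.smul_mem _ _ (Submodule.subset_span ⟨k, hk, Or.inr rfl⟩))
  have mT : sv p q ∈ Submodule.span ℚ T := Submodule.subset_span rfl
  have hqp := Ne.symm hpq
  have zAA : B (uq α) (uq α) (sv p q) = 0 := by
    refine h.lin.zero_of_span (S := A) (T := A) (U := T) ?_ _ mA _ mA _ mT
    rintro x (rfl | rfl | rfl) w (rfl | rfl | rfl) s rfl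
    · exact z _ _ _ _ _ _ p (by simp [List.count_cons, hpq, hqp, Nat.odd_iff])
    · exact z _ _ _ _ _ _ p (by simp [List.count_cons, hpq, hqp, Nat.odd_iff])
    · exact hE1 _ _ _
    · exact z _ _ _ _ _ _ p (by simp [List.count_cons, hpq, hqp, Nat.odd_iff])
    · exact z _ _ _ _ _ _ p (by simp [List.count_cons, hpq, hqp, Nat.odd_iff])
    · exact hE1 _ _ _
    · exact hE2 _ _ _
    · exact hE2 _ _ _
    · exact z _ _ _ _ _ _ p (by simp [List.count_cons, hpq, hqp, Nat.odd_iff])
  have zAY : B (uq α) (uq y) (sv p q) = 0 := by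
    refine h.lin.zero_of_span (S := A) (T := Y) (U := T) ?_ _ mA _ mY _ mT
    rintro x (rfl | rfl | rfl) w ⟨k, l, ⟨hk1, hk2⟩, ⟨hl1, hl2⟩, rfl⟩ s rfl
    · exact z _ _ _ _ _ _ p (by simp [List.count_cons, hpq, hqp, hk1, hk2, hl1, hl2, Nat.odd_iff])
    · exact z _ _ _ _ _ _ p (by simp [List.count_cons, hpq, hqp, hk1, hk2, hl1, hl2, Nat.odd_iff])
    · by_cases hkl : k = l
      · subst hkl; exact hE2 _ _ _
      · exact z _ _ _ _ _ _ k (by
          simp [List.count_cons, Ne.symm hkl, Ne.symm hk1, Ne.symm hk2, Nat.odd_iff])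
  have zYA : B (uq y) (uq α) (sv p q) = 0 := by
    refine h.lin.zero_of_span (S := Y) (T := A) (U := T) ?_ _ mY _ mA _ mT
    rintro w ⟨k, l, ⟨hk1, hk2⟩, ⟨hl1, hl2⟩, rfl⟩ x (rfl | rfl | rfl) s rfl
    · exact z _ _ _ _ _ _ p (by simp [List.count_cons, hpq, hqp, hk1, hk2, hl1, hl2, Nat.odd_iff])
    · exact z _ _ _ _ _ _ p (by simp [List.count_cons, hpq, hqp, hk1, hk2, hl1, hl2, Nat.odd_iff])
    · by_cases hkl : k = l
      · subst hkl; exact hE1 _ _ _
      · exact z _ _ _ _ _ _ k (by
          simp [List.count_cons, Ne.symm hkl, Ne.symm hk1, Ne.symm hk2, Nat.odd_iff])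
  have zYY : B (uq y) (uq y) (sv p q) = 0 := by
    refine h.lin.zero_of_span (S := Y) (T := Y) (U := T) ?_ _ mY _ mY _ mT
    rintro w ⟨k, l, ⟨hk1, hk2⟩, ⟨hl1, hl2⟩, rfl⟩ w' ⟨k', l', ⟨hk1', hk2'⟩, ⟨hl1', hl2'⟩, rfl⟩ s rfl
    exact z _ _ _ _ _ _ p (by
      simp [List.count_cons, hpq, hqp, hk1, hk2, hl1, hl2, hk1', hk2', hl1', hl2', Nat.odd_iff])
  have zAM : B (uq α) (bq α y) (sv p q) = 0 := by
    refine h.lin.zero_of_span (S := A) (T := Mx) (U := T) ?_ _ mA _ mM _ mT
    rintro x (rfl | rfl | rfl) w ⟨k, ⟨hk1, hk2⟩, rfl | rfl⟩ s rfl <;>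
      exact z _ _ _ _ _ _ k (by simp [List.count_cons, Ne.symm hk1, Ne.symm hk2, Nat.odd_iff])
  have zMA : B (bq α y) (uq α) (sv p q) = 0 := by
    refine h.lin.zero_of_span (S := Mx) (T := A) (U := T) ?_ _ mM _ mA _ mT
    rintro w ⟨k, ⟨hk1, hk2⟩, rfl | rfl⟩ x (rfl | rfl | rfl) s rfl <;>
      exact z _ _ _ _ _ _ k (by simp [List.count_cons, Ne.symm hk1, Ne.symm hk2, Nat.odd_iff])
  have zYM : B (uq y) (bq α y) (sv p q) = 0 := by
    refine h.lin.zero_of_span (S := Y) (T := Mx) (U := T) ?_ _ mY _ mM _ mT
    rintro w ⟨k, l, ⟨hk1, hk2⟩, ⟨hl1, hl2⟩, rfl⟩ w' ⟨k', ⟨hk1', hk2'⟩, rfl | rfl⟩ s rfl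
    · exact z _ _ _ _ _ _ q (by
        simp [List.count_cons, hpq, hqp, hk1, hk2, hl1, hl2, hk1', hk2', Nat.odd_iff])
    · exact z _ _ _ _ _ _ p (by
        simp [List.count_cons, hpq, hqp, hk1, hk2, hl1, hl2, hk1', hk2', Nat.odd_iff])
  have zMY : B (bq α y) (uq y) (sv p q) = 0 := by
    refine h.lin.zero_of_span (S := Mx) (T := Y) (U := T) ?_ _ mM _ mY _ mT
    rintro w' ⟨k', ⟨hk1', hk2'⟩, rfl | rfl⟩ w ⟨k, l, ⟨hk1, hk2⟩, ⟨hl1, hl2⟩, rfl⟩ s rfl
    · exact z _ _ _ _ _ _ q (by
        simp [List.count_cons, hpq, hqp, hk1, hk2, hl1, hl2, hk1', hk2', Nat.odd_iff])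
    · exact z _ _ _ _ _ _ p (by
        simp [List.count_cons, hpq, hqp, hk1, hk2, hl1, hl2, hk1', hk2', Nat.odd_iff])
  -- the remaining part
  have hkap := hκ (m3 p) (nrm_m3 p) (sv p q) (sv_mem p q)
  have hu : u (m3 p) = uq α + uq y + bq α y := by
    show uq (rt (m3 p)) = _
    rw [hx, uq_add]
  rw [hu] at hkap
  simp only [h.lin.add₁, h.lin.add₂] at hkap
  rw [zAA, zAY, zYA, zYY, zAM, zMA, zYM, zMY] at hkap
  have hmm : B (bq α y) (bq α y) (sv p q) = 0 := by linarith only [hkap]
  set μ := B (sv p r) (sv q r) (sv p q) with hμ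
  have t1 : ∀ k, k ≠ p → k ≠ q → B (sv p k) (sv q k) (sv p q) = μ := by
    intro k hk1 hk2
    obtain ⟨σ, hσ, e1, e2, e3⟩ := exists_perm hpq (Ne.symm hk1) (Ne.symm hk2) hpq hpr hqr
    have := h.perm hσ p k q k p q
    rw [e1, e2, e3] at this
    exact this.symm
  have t2 : ∀ k, k ≠ p → k ≠ q → B (sv q k) (sv p k) (sv p q) = μ := by
    intro k hk1 hk2
    obtain ⟨σ, hσ, e1, e2, e3⟩ := exists_perm hpq (Ne.symm hk1) (Ne.symm hk2) hqp hqr hpr
    have := h.perm hσ q k p k p q
    rw [e1, e2, e3, sv_comm q p] at this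
    exact this.symm
  rw [em, sum₁ h.lin] at hmm
  have key : ∀ k, B (m k) (∑ l, m l) (sv p q) = -6 / 256 * μ + (if k = p then 6 / 256 * μ else 0) +
      (if k = q then 6 / 256 * μ else 0) := by
    intro k
    by_cases hk : k = p ∨ k = q
    · have e0 : m k = 0 := by rw [hm, if_pos hk]
      rw [e0, h.lin.zero₁]
      rcases hk with hk | hk
      · have : k ≠ q := fun h' => hpq (hk ▸ h')
        rw [if_pos hk, if_neg this]; ring
      · have : k ≠ p := fun h' => hqp (hk ▸ h')
        rw [if_pos hk, if_neg this]; ring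
    · have hk' := hk
      rw [not_or] at hk'
      obtain ⟨hk1, hk2⟩ := hk'
      rw [if_neg hk1, if_neg hk2, sum₂ h.lin, Finset.sum_eq_single k]
      · rw [hm, if_neg hk]
        simp only [h.lin.add₁, h.lin.add₂, sm₁ h.lin, sm₂ h.lin]
        rw [t1 k hk1 hk2, t2 k hk1 hk2,
          z p k p k p q p (by simp [List.count_cons, hpq, hqp, hk1, hk2, Nat.odd_iff]),
          z q k q k p q p (by simp [List.count_cons, hpq, hqp, hk1, hk2, Nat.odd_iff])]
        push_cast
        ring
      · intro l _ hlk
        by_cases hl : l = p ∨ l = q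
        · have e0 : m l = 0 := by rw [hm, if_pos hl]
          rw [e0, h.lin.zero₂]
        · have hl' := hl
          rw [not_or] at hl'
          obtain ⟨hl1, hl2⟩ := hl'
          rw [hm, hm, if_neg hk, if_neg hl]
          simp only [h.lin.add₁, h.lin.add₂, sm₁ h.lin, sm₂ h.lin]
          have zz : ∀ a b : GolayPt, (a = p ∨ a = q) → (b = p ∨ b = q) →
              B (sv a k) (sv b l) (sv p q) = 0 := by
            intro a b ha hb
            refine z _ _ _ _ _ _ k ?_
            have e1 : a ≠ k := by rcases ha with rfl | rfl <;> [exact Ne.symm hk1; exact Ne.symm hk2]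
            have e2 : b ≠ k := by rcases hb with rfl | rfl <;> [exact Ne.symm hk1; exact Ne.symm hk2]
            simp [List.count_cons, e1, e2, hlk, Ne.symm hk1, Ne.symm hk2, Nat.odd_iff]
          rw [zz p p (Or.inl rfl) (Or.inl rfl), zz p q (Or.inl rfl) (Or.inr rfl),
            zz q p (Or.inr rfl) (Or.inl rfl), zz q q (Or.inr rfl) (Or.inr rfl)]
          ring
      · intro h'; exact absurd (Finset.mem_univ _) h'
  simp only [key] at hmm
  rw [Finset.sum_add_distrib, Finset.sum_add_distrib, Finset.sum_const, Finset.card_univ, card_golayPt,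
    Finset.sum_ite_eq' , if_pos (Finset.mem_univ _), Finset.sum_ite_eq' , if_pos (Finset.mem_univ _),
    nsmul_eq_mul] at hmm
  push_cast at hmm
  linarith only [hmm]

theorem combi (N : GolayPt → GolayPt → GolayPt → GolayPt → GolayPt → GolayPt → ℝ)
    (s1 : ∀ a b c d e f, N a b c d e f = N b a c d e f)
    (s2 : ∀ a b c d e f, N a b c d e f = N a b d c e f)
    (s3 : ∀ a b c d e f, N a b c d e f = N a b c d f e)
    (hL : ∀ a b c, N a a b b c c = 0) (hE1 : ∀ a b c, N c c a b a b = 0)
    (hE2 : ∀ a b c, N a b c c a b = 0) (hE3 : ∀ a b c, N a b a b c c = 0)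
    (hT : ∀ a b c, N a b c b a c = 0)
    (hodd : ∀ a b c d e f x, Odd (([a, b, c, d, e, f] : List GolayPt).count x) → N a b c d e f = 0) :
    ∀ a b c d e f, N a b c d e f = 0 := by
  have hE1' : ∀ a b c, N c c a b b a = 0 := fun a b c => by rw [s3]; exact hE1 _ _ _
  have hE2' : ∀ a b c, N a b c c b a = 0 := fun a b c => by rw [s3]; exact hE2 _ _ _
  have hE3' : ∀ a b c, N a b b a c c = 0 := fun a b c => by rw [s2]; exact hE3 _ _ _
  have hT1 : ∀ a b c, N b a c b a c = 0 := fun a b c => by rw [s1]; exact hT _ _ _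
  have hT2 : ∀ a b c, N a b b c a c = 0 := fun a b c => by rw [s2]; exact hT _ _ _
  have hT3 : ∀ a b c, N b a b c a c = 0 := fun a b c => by rw [s2]; exact hT1 _ _ _
  have hT4 : ∀ a b c, N a b c b c a = 0 := fun a b c => by rw [s3]; exact hT _ _ _
  have hT5 : ∀ a b c, N b a c b c a = 0 := fun a b c => by rw [s3]; exact hT1 _ _ _
  have hT6 : ∀ a b c, N a b b c c a = 0 := fun a b c => by rw [s3]; exact hT2 _ _ _
  have hT7 : ∀ a b c, N b a b c c a = 0 := fun a b c => by rw [s3]; exact hT3 _ _ _
  intro a b c d e f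
  by_cases ho : ∃ x, Odd (([a, b, c, d, e, f] : List GolayPt).count x)
  · obtain ⟨x, hx⟩ := ho
    exact hodd _ _ _ _ _ _ x hx
  · have hev : ∀ t : GolayPt, Even (([a, b, c, d, e, f] : List GolayPt).count t) := by
      intro t
      by_contra hc
      exact ho ⟨t, Nat.not_even_iff_odd.1 hc⟩
    rcases even_six hev with ⟨rfl, ⟨rfl, rfl⟩ | ⟨rfl, rfl⟩ | ⟨rfl, rfl⟩⟩ |
      ⟨rfl, ⟨rfl, rfl⟩ | ⟨rfl, rfl⟩ | ⟨rfl, rfl⟩⟩ |
      ⟨rfl, ⟨rfl, rfl⟩ | ⟨rfl, rfl⟩ | ⟨rfl, rfl⟩⟩ |
      ⟨rfl, ⟨rfl, rfl⟩ | ⟨rfl, rfl⟩ | ⟨rfl, rfl⟩⟩ |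
      ⟨rfl, ⟨rfl, rfl⟩ | ⟨rfl, rfl⟩ | ⟨rfl, rfl⟩⟩
    all_goals first
      | exact hL _ _ _ | exact hE1 _ _ _ | exact hE2 _ _ _ | exact hE3 _ _ _
      | exact hE1' _ _ _ | exact hE2' _ _ _ | exact hE3' _ _ _
      | exact hT _ _ _ | exact hT1 _ _ _ | exact hT2 _ _ _ | exact hT3 _ _ _
      | exact hT4 _ _ _ | exact hT5 _ _ _ | exact hT6 _ _ _ | exact hT7 _ _ _

/-- An invariant trilinear form vanishing on one diagonal type vanishes on the 300-part. -/
theorem ppp (h : PInv B) {p q : GolayPt} (hpq : p ≠ q)
    (he : B (sv p p) (sv p q) (sv p q) = 0) :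
    ∀ x ∈ Pu, ∀ y ∈ Pu, ∀ w ∈ Pu, B x y w = 0 := by
  obtain ⟨z1, z2, z3, z4, z5, z6⟩ := zeros h hpq he
  have hL := LLL h hpq z3 z4 z5 z6
  have hE3 : ∀ a b c, B (sv a b) (sv a b) (sv c c) = 0 := EEL h hpq (fun a b => hL a a b) z2
  have hE2 : ∀ a b c, B (sv a b) (sv c c) (sv a b) = 0 :=
    EEL h.s23 hpq (fun a b => hL a b a) z1
  have hE1 : ∀ a b c, B (sv c c) (sv a b) (sv a b) = 0 :=
    EEL h.s12.s23 hpq (fun a b => hL b a a) he
  have hκ : ∀ v : leechLattice, nrm v = 32 → ∀ w ∈ Pu, B (u v) (u v) w = 0 := by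
    obtain ⟨κ, hκ⟩ := kappa h
    have h1 := (rel_k h hpq hκ).1
    rw [he, z1] at h1
    have h2 : κ = 0 := by linarith
    intro v hv w hw
    rw [hκ v hv w hw, h2, zero_mul]
  have hT : ∀ a b c, B (sv a b) (sv c b) (sv a c) = 0 := by
    intro a b c
    by_cases hac : a = c
    · subst hac; exact hE3 _ _ _
    by_cases hab : a = b
    · subst hab; rw [sv_comm c a]; exact hE1 _ _ _
    by_cases hcb : c = b
    · subst hcb; exact hE2 _ _ _
    exact tri_zero h hE1 hE2 hκ hac hab hcb
  have all : ∀ a b c d e f, B (sv a b) (sv c d) (sv e f) = 0 :=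
    combi (fun a b c d e f => B (sv a b) (sv c d) (sv e f))
      (fun a b c d e f => by rw [sv_comm a b]) (fun a b c d e f => by rw [sv_comm c d])
      (fun a b c d e f => by rw [sv_comm e f]) hL hE1 hE2 hE3 hT
      fun a b c d e f x hx => h.zero_of_odd x hx
  intro x hx y hy w hw
  refine h.lin.zero_of_span (S := {w | ∃ p q, w = sv p q}) (T := {w | ∃ p q, w = sv p q})
    (U := {w | ∃ p q, w = sv p q}) ?_ x (mem_span_iff_sv x hx) y (mem_span_iff_sv y hy) w
    (mem_span_iff_sv w hw)
  rintro _ ⟨a, b, rfl⟩ _ ⟨c, d, rfl⟩ _ ⟨e, f, rfl⟩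
  exact all a b c d e f

end Cfsg.Agent.H850.Diag2
end

-- part: H850/Core
section
/-!
# An invariant trilinear form with one value zero is zero (helper850)
-/

set_option autoImplicit false
set_option linter.unusedSimpArgs false

namespace Cfsg.Agent.H850.Core

open Cfsg Cfsg.Agent.MonsterX Cfsg.Agent.MonsterX.Space Cfsg.Agent.MonsterX.USide
open Cfsg.Agent.MonsterX.UOnto Cfsg.Agent.MonsterX.Short Cfsg.Agent.MonsterX.KRows
open Cfsg.Agent.MonsterX.KAsm Cfsg.Agent.MonsterX.LabPl Cfsg.Agent.MonsterX.KInst
open Cfsg.Agent.MonsterX.Conc Cfsg.Agent.MonsterX.KDone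
open Cfsg.Agent.Monster.PauliBasic Cfsg.Agent.Monster.PauliClif
open Cfsg.Agent.SporadicStructure.Co0Base Cfsg.Agent.Leech.Code
open Cfsg.Agent.MonsterX.KSide Cfsg.Agent.MonsterX.Lat Cfsg.Agent.MonsterX.CoGens
open Cfsg.Agent.MonsterX.KLift Cfsg.Agent.MonsterP.SChar
open Cfsg.Agent.Leech.Trans Cfsg.Agent.Leech.TransPair Cfsg.Agent.Leech.Co0Elts
open Cfsg.Agent.H850.TriA Cfsg.Agent.H850.Coord Cfsg.Agent.H850.Parity Cfsg.Agent.H850.Func
open Cfsg.Agent.H850.Diag Cfsg.Agent.H850.Diag2 Cfsg.Agent.H850.TauData

/-- A trilinear form invariant under `G`, vanishing on the identity matrix. -/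
structure GInv (B : V → V → V → ℝ) : Prop where
  lin : TriLin B
  inv : ∀ g ∈ Conc.G, ∀ x y w, B (g x) (g y) (g w) = B x y w
  id₁ : ∀ y w, B I y w = 0
  id₂ : ∀ x w, B x I w = 0
  id₃ : ∀ x y, B x y I = 0

variable {B : V → V → V → ℝ}

theorem GInv.s12 (h : GInv B) : GInv fun x y w => B y x w where
  lin := h.lin.s12
  inv k hk x y w := h.inv k hk y x w
  id₁ y w := h.id₂ y w
  id₂ x w := h.id₁ x w
  id₃ x y := h.id₃ y x

theorem GInv.s23 (h : GInv B) : GInv fun x y w => B x w y where
  lin := h.lin.s23
  inv k hk x y w := h.inv k hk x w y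
  id₁ y w := h.id₁ w y
  id₂ x w := h.id₃ x w
  id₃ x y := h.id₂ x y

theorem GInv.pinv (h : GInv B) : PInv B where
  lin := h.lin
  inv k hk := h.inv k (C_le_G hk)
  id₁ := h.id₁
  id₂ := h.id₂
  id₃ := h.id₃

theorem GInv.kinv (h : GInv B) : KInv K B where
  lin := h.lin
  inv k _ x y w := h.inv k.1 k.2 x y w

theorem F'_u_pp {v : leechLattice} (hv : nrm v = 32) (p : GolayPt) :
    F' (u v) (sv p p) = rt v p ^ 2 / 8 - 1 / 6 := by
  unfold F'
  have h1 : F (u v) I = 2 := by
    show F (uq (rt _)) I = 2
    rw [F_uq_I]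
    have h2 : (∑ i, rt v i ^ 2) = 32 := by
      have h3 := dot_rt v v
      have h4 : dotInt (v : GolayPt → ℤ) (v : GolayPt → ℤ) = 32 := by
        have h5 : dot v v = nrm v := KS.dot_self _
        rw [hv] at h5
        exact h5
      rw [h4] at h3
      rw [show (32 : ℚ) = ((32 : ℤ) : ℚ) by norm_num, h3]
      exact Finset.sum_congr rfl fun i _ => by rw [sq]
    rw [h2]; norm_num
  rw [h1, F_I_sv, if_pos rfl]
  show F (uq (rt _)) (sv p p) - _ = _
  rw [F_uq_sv]
  ring

/-- The values on two equal vectors of the `98280`-part. -/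
theorem lam₁ (h : GInv B) : ∃ l : ℝ, ∀ x ∈ Sh, ∀ w ∈ Pu,
    B w (Xv x) (Xv x) = l * F' (u (lam x)) w := by
  have hx₁ : xl 62465 ∈ Sh := xl_mem SL1.2.1
  obtain ⟨l, hl⟩ := classify₀ h01 (h.lin.l₁ (Xv (xl 62465)) (Xv (xl 62465))) (by
    intro A hA v
    obtain ⟨k, hk, α, T, A', hAct, hpm⟩ := exists_acts K A
    show B (u (A • v)) _ _ = B (u v) _ _
    have e1 : u (A • v) = k.1 (u v) := by
      have h1 : k.1 (u v) = u (A' • v) := hAct.act_u v
      rw [h1]
      rcases hpm v with e | e <;> rw [e]
      rw [u_neg']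
    have h2 : k.1 (Xv (xl 62465)) = Xv (α (xl 62465)) := hAct.act_X _ hx₁
    have h3 : lam (α (xl 62465)) = lam (xl 62465) ∨ lam (α (xl 62465)) = -lam (xl 62465) := by
      have h4 : lam (α (xl 62465)) = A' • lam (xl 62465) ∨
          lam (α (xl 62465)) = -(A' • lam (xl 62465)) := hAct.act_lam _ hx₁
      have h5 : A • lam (xl 62465) = lam (xl 62465) := by
        rcases lam01 with e | e <;> rw [e]
        · exact hA
        · rw [co0_smul_neg, hA]
      rcases h4 with e | e <;> rcases hpm (lam (xl 62465)) with e' | e' <;> rw [e, e', h5] <;> simp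
    rcases lam_inj _ hx₁ _ (hAct.act_sh _ hx₁) h3 with e | e
    · rw [e] at h2
      rw [e1]
      nth_rewrite 1 [← h2]
      nth_rewrite 2 [← h2]
      exact h.inv k.1 k.2 _ _ _
    · rw [e, Xv_z] at h2
      have h6 : Xv (xl 62465) = k.1 (-Xv (xl 62465)) := by rw [map_neg, h2, neg_neg]
      rw [e1]
      nth_rewrite 1 [h6]
      nth_rewrite 2 [h6]
      rw [h.inv k.1 k.2, h.lin.neg₂, h.lin.neg₃, neg_neg]) (h.id₁ _ _)
  refine ⟨l, fun x hx w hw => ?_⟩
  obtain ⟨k, hk, A, α, T, hAct, hα⟩ := trans_Sh lft (xl 62465) x hx₁ hx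
  have hkC : k.1 ∈ Conc.C := Subgroup.mem_subgroupOf.1 hk
  have h2 : k.1 (Xv (xl 62465)) = Xv x := by
    have := hAct.act_X _ hx₁
    rw [hα] at this
    exact this
  have ew : w = k.1 (k.1⁻¹ w) := (k.1.apply_symm_apply w).symm
  have hw' : k.1⁻¹ w ∈ Pu := C_Pu (inv_mem hkC) hw
  have h3 : k.1 (u (v0 P0 P1 h01)) = u (lam x) := by
    have e1 : u (v0 P0 P1 h01) = u (lam (xl 62465)) := by
      rcases lam01 with e | e <;> rw [e]
      rw [u_neg']
    rw [e1]
    have h4 : k.1 (u (lam (xl 62465))) = u (A • lam (xl 62465)) := hAct.act_u _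
    rw [h4]
    have h5 : lam (α (xl 62465)) = A • lam (xl 62465) ∨ lam (α (xl 62465)) = -(A • lam (xl 62465)) :=
      hAct.act_lam _ hx₁
    rw [hα] at h5
    rcases h5 with e | e <;> rw [e]
    rw [u_neg']
  rw [← h2, ew, h.inv k.1 k.2, ← h3, C_F' hkC]
  exact hl _ hw'

theorem z_ne {i j : ℕ} (hi : SL.testBit i = true) (hj : SL.testBit j = true) (hij : i ≠ j) :
    xl j ≠ xl i ∧ xl j ≠ Pauli.z 12 * xl i := by
  constructor
  · intro h
    exact hij (labFacts.inj i j hi hj (congrArg ab h).symm)
  · intro h
    exact hij (labFacts.inj i j hi hj ((ab_eq_iff _ _).2 (Or.inr h)).symm)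

/-- The value on a loop and a double edge in terms of the constant. -/
theorem e_eq (h : GInv B) {l : ℝ} (hl : ∀ x ∈ Sh, ∀ w ∈ Pu, B w (Xv x) (Xv x) = l * F' (u (lam x)) w) :
    ∃ s : ℝ, 0 < s ∧ B (sv P0 P0) (sv P0 P1) (sv P0 P1) = l * s := by
  have m1 : xl 62496 ∈ Sh := xl_mem SL1.1
  have m2 : xl 62465 ∈ Sh := xl_mem SL1.2.1
  refine ⟨((F' (u (lam (xl 62496))) (sv P0 P0) + F' (u (lam (xl 62465))) (sv P0 P0) : ℚ) : ℝ), ?_, ?_⟩
  · have e1 : F' (u (lam (xl 62465))) (sv P0 P0) = 11 / 6 := by
      rcases lam01 with e | e <;> rw [e]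
      · exact F'_v0_pp h01
      · rw [u_neg']; exact F'_v0_pp h01
    have e2 : F' (u (lam (xl 62496))) (sv P0 P0) = rt (lam (xl 62496)) P0 ^ 2 / 8 - 1 / 6 :=
      F'_u_pp (lam_norm _ m1) P0
    have h3 : 0 ≤ rt (lam (xl 62496)) P0 ^ 2 := sq_nonneg _
    have h4 : (0 : ℚ) < F' (u (lam (xl 62496))) (sv P0 P0) + F' (u (lam (xl 62465))) (sv P0 P0) := by
      rw [e1, e2]; linarith only [h3]
    exact_mod_cast h4
  · rw [← h.inv τ τ_mem_G, τ00, τ01]
    have hp : sv P0 P0 ∈ PP K := sv_mem P0 P0
    simp only [h.lin.add₂, h.lin.add₃, h.lin.neg₂, h.lin.neg₃, neg_neg]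
    have z1 := z_ne SL1.1 SL1.2.1 (by norm_num)
    have z2 := z_ne SL1.2.1 SL1.1 (by norm_num)
    have c1 : B (sv P0 P0) (Xv (xl 62496)) (Xv (xl 62465)) = 0 :=
      h.kinv.pxx lft hp m1 m2 z1.1 z1.2
    have c2 : B (sv P0 P0) (Xv (xl 62465)) (Xv (xl 62496)) = 0 :=
      h.kinv.pxx lft hp m2 m1 z2.1 z2.2
    rw [c1, c2, hl _ m1 _ (sv_mem _ _), hl _ m2 _ (sv_mem _ _)]
    push_cast
    ring

/-- The span of the `98280`-part. -/
noncomputable abbrev Wx : Submodule ℚ V := Submodule.span ℚ (Xv '' Sh)

/-- The centraliser of `z`. -/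
noncomputable abbrev Zv : Submodule ℚ V := Submodule.span ℚ (Set.range u ∪ Xv '' Sh)

/-- The type `PXX`. -/
theorem pXX (h : GInv B) (h0 : ∀ x ∈ Sh, ∀ w ∈ Pu, B w (Xv x) (Xv x) = 0) :
    ∀ a ∈ Pu, ∀ x ∈ Wx, ∀ y ∈ Wx, B a x y = 0 := by
  refine h.lin.zero_of_span ?_
  rintro _ ⟨v, rfl⟩ _ ⟨x, hx, rfl⟩ _ ⟨y, hy, rfl⟩
  by_cases h1 : y = x
  · subst h1; exact h0 y hy _ (Diag.u_mem v)
  · by_cases h2 : y = Pauli.z 12 * x
    · rw [h2, Xv_z, h.lin.neg₃, h0 x hx _ (Diag.u_mem v), neg_zero]
    · exact h.kinv.pxx lft (Diag.u_mem v) hx hy h1 h2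

/-- The type `PPX`. -/
theorem pPX (h : GInv B) : ∀ a ∈ Pu, ∀ b ∈ Pu, ∀ y ∈ Wx, B a b y = 0 := by
  refine h.lin.zero_of_span ?_
  rintro _ ⟨v, rfl⟩ _ ⟨w, rfl⟩ _ ⟨y, hy, rfl⟩
  exact h.kinv.ppx lft (Diag.u_mem v) (Diag.u_mem w) hy

theorem neg_mem_Wx {x : Pauli 12} (hx : x ∈ Sh) : Xv x ∈ Wx := Submodule.subset_span ⟨x, hx, rfl⟩

/-- The three adjacent short elements. -/
theorem x_rel : Eqz K (xl 62466) (xl 62465 * xl 62498) ∧ Ad K (xl 62465) (xl 62498) := by
  have m1 : xl 62465 ∈ Sh := xl_mem SL1.2.1
  have m2 : xl 62498 ∈ Sh := xl_mem SL1.2.2.2.1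
  have m3 : xl 62466 ∈ Sh := xl_mem SL1.2.2.2.2.2
  have L := lft
  have t : ∀ {x : Pauli 12} {v : leechLattice}, x ∈ Sh → (lam x = v ∨ lam x = -v) →
      Eqz K (ShortQ.theta v) x := by
    intro x v hx hv
    have h1 : Eqz K (ShortQ.theta (K.lam x)) x := L.lam x hx
    rcases hv with e | e
    · have e' : K.lam x = v := e
      rw [e'] at h1; exact h1
    · have e' : K.lam x = -v := e
      rw [e'] at h1
      exact (θ_neg L v).symm.trans h1
  have t1 := t m1 lam01
  have t2 := t m2 lam12
  have t3 := t m3 lam02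
  have hsum : v0 P0 P1 h01 + v0 P1 P2 h12 = v0 P0 P2 h02 := by
    apply Subtype.ext
    rw [AddSubgroup.coe_add]
    funext i
    rw [Pi.add_apply]
    by_cases i0 : i = P0
    · subst i0; rw [v0_left, v0_left, v0_other h12 h01 h02]; norm_num
    by_cases i1 : i = P1
    · subst i1; rw [v0_right, v0_left, v0_other h02 (Ne.symm h01) h12]; norm_num
    by_cases i2 : i = P2
    · subst i2; rw [v0_right, v0_right, v0_other h01 (Ne.symm h02) (Ne.symm h12)]; norm_num
    rw [v0_other h01 i0 i1, v0_other h12 i1 i2, v0_other h02 i0 i2]; norm_num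
  constructor
  · have e1 : Eqz K (ShortQ.theta (v0 P0 P1 h01 + v0 P1 P2 h12))
        (ShortQ.theta (v0 P0 P1 h01) * ShortQ.theta (v0 P1 P2 h12)) := L.add _ _
    rw [hsum] at e1
    exact t3.symm.trans (e1.trans (Eqz.mul t1 t2))
  · have e1 : dot (v0 P0 P1 h01) (v0 P1 P2 h12) = -16 := by
      rw [MonsterP.LeechTriple.dot_v0', v0_left, v0_other h12 h01 h02]; norm_num
    have n1 : ∀ v w : leechLattice, dot (-v) w = -dot v w := by
      intro v w
      show dotInt _ _ = _
      rw [AddSubgroup.coe_neg, Cfsg.Agent.LeechMat.Core.dotInt_neg_left]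
    have n2 : ∀ v w : leechLattice, dot v (-w) = -dot v w := by
      intro v w
      show dotInt _ _ = _
      rw [AddSubgroup.coe_neg, Cfsg.Agent.LeechMat.Core.dotInt_neg_right]
    show dot (lam (xl 62465)) (lam (xl 62498)) = 16 ∨ dot (lam (xl 62465)) (lam (xl 62498)) = -16
    rcases lam01 with a | a <;> rcases lam12 with b | b <;> rw [a, b]
    · right; exact e1
    · left; rw [n2, e1]; norm_num
    · left; rw [n1, e1]; norm_num
    · right; rw [n1, n2, e1]; norm_num

/-- The three images under `τ` are in the `98280`-part. -/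
theorem τ_mem : τ (sv P0 P1) ∈ Wx ∧ τ (sv P1 P2) ∈ Wx ∧ τ (sv P0 P2) ∈ Wx := by
  rw [τ01, τ12, τ02]
  refine ⟨?_, ?_, ?_⟩ <;> refine Submodule.add_mem _ (Submodule.neg_mem _ ?_) (Submodule.neg_mem _ ?_) <;>
    apply neg_mem_Wx
  · exact xl_mem SL1.1
  · exact xl_mem SL1.2.1
  · exact xl_mem SL1.2.2.1
  · exact xl_mem SL1.2.2.2.1
  · exact xl_mem SL1.2.2.2.2.1
  · exact xl_mem SL1.2.2.2.2.2

/-- The value on three adjacent vectors. -/
theorem xxx₀ (h : GInv B) (hP : ∀ x ∈ Pu, ∀ y ∈ Pu, ∀ w ∈ Pu, B x y w = 0)
    (h1 : ∀ a ∈ Pu, ∀ x ∈ Wx, ∀ y ∈ Wx, B a x y = 0)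
    (h2 : ∀ a ∈ Pu, ∀ x ∈ Wx, ∀ y ∈ Wx, B x a y = 0)
    (h3 : ∀ a ∈ Pu, ∀ x ∈ Wx, ∀ y ∈ Wx, B x y a = 0)
    (k1 : ∀ a ∈ Pu, ∀ b ∈ Pu, ∀ y ∈ Wx, B a b y = 0)
    (k2 : ∀ a ∈ Pu, ∀ b ∈ Pu, ∀ y ∈ Wx, B a y b = 0)
    (k3 : ∀ a ∈ Pu, ∀ b ∈ Pu, ∀ y ∈ Wx, B y a b = 0) :
    B (Xv (xl 62465)) (Xv (xl 62498)) (Xv (xl 62466)) = 0 := by
  have hi : ∀ x y w, B (τ x) (τ y) (τ w) = B x y w := h.inv τ τ_mem_G
  obtain ⟨ma, mb, mc⟩ := τ_mem
  have pa : sv P0 P1 ∈ Pu := sv_mem _ _
  have pb : sv P1 P2 ∈ Pu := sv_mem _ _
  have pc : sv P0 P2 ∈ Pu := sv_mem _ _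
  rw [X01_eq, X12_eq, X02_eq]
  simp only [sm₁ h.lin, sm₂ h.lin, sm₃ h.lin, h.lin.add₁, h.lin.add₂, h.lin.add₃, hi]
  rw [hP _ pa _ pb _ pc, h1 _ pa _ mb _ mc, h2 _ pb _ ma _ mc, h3 _ pc _ ma _ mb,
    k1 _ pa _ pb _ mc, k2 _ pa _ pc _ mb, k3 _ pb _ pc _ ma]
  ring

/-- The type `XXX`. -/
theorem xXX (h : GInv B) (h0 : B (Xv (xl 62465)) (Xv (xl 62498)) (Xv (xl 62466)) = 0) :
    ∀ x ∈ Wx, ∀ y ∈ Wx, ∀ w ∈ Wx, B x y w = 0 := by
  have m1 : xl 62465 ∈ K.Sh := xl_mem SL1.2.1
  have m2 : xl 62498 ∈ K.Sh := xl_mem SL1.2.2.2.1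
  have L := lft
  obtain ⟨r1, r2⟩ := x_rel
  have h0' : B (Xv (xl 62465)) (Xv (xl 62498)) (Xv (xl 62465 * xl 62498)) = 0 := by
    rcases r1 with e | e
    · rw [← e]; exact h0
    · have e' : xl 62466 = Pauli.z 12 * (xl 62465 * xl 62498) := e
      rw [e', Xv_z, h.lin.neg₃, neg_eq_zero] at h0
      exact h0
  refine h.lin.zero_of_span ?_
  rintro _ ⟨x, hx, rfl⟩ _ ⟨y, hy, rfl⟩ _ ⟨t, ht, rfl⟩
  by_cases hz : Eqz K t (x * y)
  · have hxy : x * y ∈ K.Sh := by
      rcases hz with e | e
      · rw [← e]; exact ht
      · have e2 : x * y = K.zc * t := by rw [e, ← mul_assoc, K.zc_mul, one_mul]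
        rw [e2]; exact K.Sh_z t ht
    have had : Ad K x y := ad_of_mul L hx hy hxy
    obtain ⟨k, α, ⟨hk, A, T, hA⟩, e1, e2⟩ := trans_pair L m1 m2 hx hy r2 had
    have f1 : k.1 (Xv (xl 62465)) = Xv x := by rw [← e1]; exact hA.act_X _ m1
    have f2 : k.1 (Xv (xl 62498)) = Xv y := by rw [← e2]; exact hA.act_X _ m2
    have m3 : xl 62465 * xl 62498 ∈ K.Sh := by
      have m4 : xl 62466 ∈ K.Sh := xl_mem SL1.2.2.2.2.2
      rcases r1 with e | e
      · rw [← e]; exact m4
      · have e2 : xl 62465 * xl 62498 = K.zc * xl 62466 := by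
          rw [e, ← mul_assoc, K.zc_mul, one_mul]
        rw [e2]; exact K.Sh_z _ m4
    have f3 : k.1 (Xv (xl 62465 * xl 62498)) = Xv (x * y) := by
      rw [← e1, ← e2, ← map_mul]; exact hA.act_X _ m3
    have h1 : B (Xv x) (Xv y) (Xv (x * y)) = 0 := by
      rw [← f1, ← f2, ← f3, h.inv k.1 k.2, h0']
    rcases hz with e | e
    · rw [e]; exact h1
    · have e' : t = Pauli.z 12 * (x * y) := e
      rw [e', Xv_z, h.lin.neg₃, h1, neg_zero]
  · exact h.kinv.xxx L hx hy ht hz

/-- `B` vanishes on the centraliser of `z`. -/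
theorem zero_Zv (h : GInv B) (h0 : B (sv P0 P0) (Xv (xl 62465)) (Xv (xl 62465)) = 0) :
    ∀ x ∈ Zv, ∀ y ∈ Zv, ∀ w ∈ Zv, B x y w = 0 := by
  obtain ⟨l₁, hl₁⟩ := lam₁ h
  obtain ⟨l₂, hl₂⟩ := lam₁ h.s12
  obtain ⟨l₃, hl₃⟩ := lam₁ h.s23.s12
  have m1 : xl 62465 ∈ Sh := xl_mem SL1.2.1
  have hl₁0 : l₁ = 0 := by
    rw [hl₁ _ m1 _ (sv_mem _ _), F'_u_pp (lam_norm _ m1)] at h0
    have e1 : F' (u (lam (xl 62465))) (sv P0 P0) = 11 / 6 := by
      rcases lam01 with e | e <;> rw [e]
      · exact F'_v0_pp h01
      · rw [u_neg']; exact F'_v0_pp h01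
    rw [F'_u_pp (lam_norm _ m1)] at e1
    rw [e1] at h0
    rcases mul_eq_zero.1 h0 with h0 | h0
    · exact h0
    · norm_num at h0
  obtain ⟨s₁, hs₁, e₁⟩ := e_eq h hl₁
  rw [hl₁0, zero_mul] at e₁
  obtain ⟨z1, z2, -⟩ := zeros h.pinv h01 e₁
  obtain ⟨s₂, hs₂, e₂⟩ := e_eq h.s12 hl₂
  obtain ⟨s₃, hs₃, e₃⟩ := e_eq h.s23.s12 hl₃
  have hl₂0 : l₂ = 0 := by
    rw [z1] at e₂
    exact (mul_eq_zero.1 e₂.symm).resolve_right hs₂.ne'
  have hl₃0 : l₃ = 0 := by
    rw [z2] at e₃
    exact (mul_eq_zero.1 e₃.symm).resolve_right hs₃.ne'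
  have hP := ppp h.pinv h01 e₁
  have h1 : ∀ a ∈ Pu, ∀ x ∈ Wx, ∀ y ∈ Wx, B a x y = 0 :=
    pXX h fun x hx w hw => by rw [hl₁ x hx w hw, hl₁0, zero_mul]
  have h2 : ∀ a ∈ Pu, ∀ x ∈ Wx, ∀ y ∈ Wx, B x a y = 0 :=
    pXX h.s12 fun x hx w hw => by rw [hl₂ x hx w hw, hl₂0, zero_mul]
  have h3 : ∀ a ∈ Pu, ∀ x ∈ Wx, ∀ y ∈ Wx, B x y a = 0 :=
    pXX h.s23.s12 fun x hx w hw => by rw [hl₃ x hx w hw, hl₃0, zero_mul]
  have k1 : ∀ a ∈ Pu, ∀ b ∈ Pu, ∀ y ∈ Wx, B a b y = 0 := pPX h
  have k2 : ∀ a ∈ Pu, ∀ b ∈ Pu, ∀ y ∈ Wx, B a y b = 0 := pPX h.s23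
  have k3 : ∀ a ∈ Pu, ∀ b ∈ Pu, ∀ y ∈ Wx, B y a b = 0 := pPX h.s12.s23
  have hX := xXX h (xxx₀ h hP h1 h2 h3 k1 k2 k3)
  refine h.lin.zero_of_span ?_
  have mP : ∀ v, u v ∈ Pu := Diag.u_mem
  rintro _ (⟨a, rfl⟩ | ⟨x, hx, rfl⟩) _ (⟨b, rfl⟩ | ⟨y, hy, rfl⟩) _ (⟨c, rfl⟩ | ⟨t, ht, rfl⟩)
  · exact hP _ (mP a) _ (mP b) _ (mP c)
  · exact k1 _ (mP a) _ (mP b) _ (neg_mem_Wx ht)
  · exact k2 _ (mP a) _ (mP c) _ (neg_mem_Wx hy)
  · exact h1 _ (mP a) _ (neg_mem_Wx hy) _ (neg_mem_Wx ht)
  · exact k3 _ (mP b) _ (mP c) _ (neg_mem_Wx hx)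
  · exact h2 _ (mP b) _ (neg_mem_Wx hx) _ (neg_mem_Wx ht)
  · exact h3 _ (mP c) _ (neg_mem_Wx hx) _ (neg_mem_Wx hy)
  · exact hX _ (neg_mem_Wx hx) _ (neg_mem_Wx hy) _ (neg_mem_Wx ht)

end Cfsg.Agent.H850.Core
end

-- part: H850/Core2
section
/-!
# An invariant trilinear form with one value zero is zero: the part where `z` is `-1` (helper850)
-/

set_option autoImplicit false

namespace Cfsg.Agent.H850.Core2

open Cfsg Cfsg.Agent.MonsterX Cfsg.Agent.MonsterX.Space Cfsg.Agent.MonsterX.USide
open Cfsg.Agent.MonsterX.UOnto Cfsg.Agent.MonsterX.Short Cfsg.Agent.MonsterX.KRows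
open Cfsg.Agent.MonsterX.KAsm Cfsg.Agent.MonsterX.LabPl Cfsg.Agent.MonsterX.KInst
open Cfsg.Agent.MonsterX.Conc Cfsg.Agent.MonsterX.KDone
open Cfsg.Agent.MonsterX.KSide Cfsg.Agent.MonsterX.Lat Cfsg.Agent.MonsterX.CoGens
open Cfsg.Agent.MonsterX.KLift Cfsg.Agent.MonsterP.SChar
open Cfsg.Agent.H850.TriA Cfsg.Agent.H850.Coord Cfsg.Agent.H850.Parity Cfsg.Agent.H850.Func
open Cfsg.Agent.H850.Diag Cfsg.Agent.H850.Diag2 Cfsg.Agent.H850.TauData Cfsg.Agent.H850.Core

/-! ### The eigenspaces of `z` -/

theorem z_mem_G : z ∈ Conc.G := C_le_G (Q_le_C ProgM.Inv.z_mem_Q)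

theorem zz (v : V) : z (z v) = v := by
  rw [← LinearEquiv.mul_apply, RelAll.z_sq]; rfl

theorem z_K : (K.z : V ≃ₗ[ℚ] V) = z := (lnk.z_eq).symm

theorem z_Zv {v : V} (hv : v ∈ Zv) : z v = v := by
  induction hv using Submodule.span_induction with
  | mem v hv =>
    rw [← z_K]
    rcases hv with ⟨w, rfl⟩ | ⟨x, hx, rfl⟩
    · exact K.z_u w
    · exact K.z_X x hx
  | zero => exact map_zero _
  | add a b _ _ ha hb => rw [map_add, ha, hb]
  | smul c a _ ha => rw [map_smul, ha]

theorem neg_eq_self {v : V} (h : -v = v) : v = 0 := by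
  have h2 : (2 : ℚ) • v = 0 := by
    rw [two_smul]
    nth_rewrite 1 [← h]
    exact neg_add_cancel v
  exact (smul_eq_zero.1 h2).resolve_left two_ne_zero

theorem decomp (v : V) : ∃ s ∈ Zv, ∃ θ, z θ = -θ ∧ v = s + θ := by
  have hv : v ∈ Submodule.span ℚ
      (Set.range K.u ∪ K.X '' K.Sh ∪ {w | ∃ f v, w = K.Θ f (rat v)}) := by
    rw [K.span]; trivial
  induction hv using Submodule.span_induction with
  | mem v hv =>
    rcases hv with (⟨w, rfl⟩ | ⟨y, hy, rfl⟩) | ⟨f, w, rfl⟩
    · exact ⟨_, Submodule.subset_span (Or.inl ⟨w, rfl⟩), 0, by rw [map_zero, neg_zero],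
        (add_zero _).symm⟩
    · exact ⟨_, Submodule.subset_span (Or.inr ⟨y, hy, rfl⟩), 0, by rw [map_zero, neg_zero],
        (add_zero _).symm⟩
    · refine ⟨0, Submodule.zero_mem _, _, ?_, (zero_add _).symm⟩
      rw [← z_K]
      exact K.z_Θ f _
  | zero => exact ⟨0, Submodule.zero_mem _, 0, by rw [map_zero, neg_zero], (add_zero _).symm⟩
  | add a b _ _ ha hb =>
    obtain ⟨s, hs, θ, hθ, rfl⟩ := ha
    obtain ⟨s', hs', θ', hθ', rfl⟩ := hb
    refine ⟨s + s', Submodule.add_mem _ hs hs', θ + θ', ?_, by abel⟩
    rw [map_add, hθ, hθ', neg_add]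
  | smul c a _ ha =>
    obtain ⟨s, hs, θ, hθ, rfl⟩ := ha
    refine ⟨c • s, Submodule.smul_mem _ _ hs, c • θ, ?_, smul_add _ _ _⟩
    rw [map_smul, hθ, smul_neg]

theorem mem_Zv {v : V} (h : z v = v) : v ∈ Zv := by
  obtain ⟨s, hs, θ, hθ, rfl⟩ := decomp v
  rw [map_add, z_Zv hs, hθ] at h
  have h2 := add_left_cancel h
  rw [neg_eq_self h2, add_zero]
  exact hs

/-! ### The four-group -/

/-- The conjugate of `z` under `τ`. -/
noncomputable abbrev z₁ : V ≃ₗ[ℚ] V := E 0

theorem τz (v : V) : τ (z v) = z₁ (τ v) := by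
  have h := RelAll.τ_z
  rw [mul_inv_eq_iff_eq_mul] at h
  exact congrArg (fun f : V ≃ₗ[ℚ] V => f v) h

theorem τz₁ (v : V) : τ (z₁ v) = z (z₁ (τ v)) := by
  have h := RelAll.τ_x0
  rw [mul_inv_eq_iff_eq_mul] at h
  exact congrArg (fun f : V ≃ₗ[ℚ] V => f v) h

theorem zz₁ (v : V) : z (z₁ v) = z₁ (z v) :=
  congrArg (fun f : V ≃ₗ[ℚ] V => f v) RelAll.z_x0

theorem z₁z₁ (v : V) : z₁ (z₁ v) = v := by
  obtain ⟨w, rfl⟩ := τ.surjective v
  rw [← τz, ← τz, zz]

theorem z₁_mem_G : z₁ ∈ Conc.G := C_le_G (E_mem_C (by norm_num))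

variable {B : V → V → V → ℝ}

theorem zero_z (h : GInv B) (h0 : ∀ x ∈ Zv, ∀ y ∈ Zv, ∀ w ∈ Zv, B x y w = 0) {x y w : V}
    (hx : z x = x) (hy : z y = y) (hw : z w = w) : B x y w = 0 :=
  h0 x (mem_Zv hx) y (mem_Zv hy) w (mem_Zv hw)

theorem zero_z₁ (h : GInv B) (h0 : ∀ x ∈ Zv, ∀ y ∈ Zv, ∀ w ∈ Zv, B x y w = 0) {x y w : V}
    (hx : z₁ x = x) (hy : z₁ y = y) (hw : z₁ w = w) : B x y w = 0 := by
  obtain ⟨x, rfl⟩ := τ.surjective x
  obtain ⟨y, rfl⟩ := τ.surjective y
  obtain ⟨w, rfl⟩ := τ.surjective w
  rw [h.inv τ τ_mem_G]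
  rw [← τz] at hx hy hw
  exact zero_z h h0 (τ.injective hx) (τ.injective hy) (τ.injective hw)

theorem zero_z₂ (h : GInv B) (h0 : ∀ x ∈ Zv, ∀ y ∈ Zv, ∀ w ∈ Zv, B x y w = 0) {x y w : V}
    (hx : z (z₁ x) = x) (hy : z (z₁ y) = y) (hw : z (z₁ w) = w) : B x y w = 0 := by
  obtain ⟨x, rfl⟩ := τ.surjective x
  obtain ⟨y, rfl⟩ := τ.surjective y
  obtain ⟨w, rfl⟩ := τ.surjective w
  rw [h.inv τ τ_mem_G]
  rw [← τz₁] at hx hy hw
  exact zero_z₁ h h0 (τ.injective hx) (τ.injective hy) (τ.injective hw)

theorem smn (c : ℚ) (v : V) : c • (-v) = -(c • v) := smul_neg c v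

theorem split (v : V) : ∃ a b, z₁ a = a ∧ z₁ b = -b ∧ v = a + b ∧
    (z v = -v → z a = -a ∧ z b = -b) := by
  refine ⟨(1 / 2 : ℚ) • (v + z₁ v), (1 / 2 : ℚ) • (v - z₁ v), ?_, ?_, ?_, ?_⟩
  · rw [map_smul, map_add, z₁z₁, add_comm]
  · rw [map_smul, map_sub, z₁z₁, ← smn, neg_sub]
  · rw [← smul_add, add_add_sub_cancel, ← two_smul ℚ v, smul_smul]; norm_num
  · intro hv
    constructor
    · rw [map_smul, map_add, zz₁, hv, map_neg, ← neg_add, smul_neg]
    · rw [map_smul, map_sub, zz₁, hv, map_neg, ← smn, neg_sub_neg, neg_sub]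

theorem sθθ (h : GInv B) (h0 : ∀ x ∈ Zv, ∀ y ∈ Zv, ∀ w ∈ Zv, B x y w = 0) {s θ θ' : V}
    (hs : z s = s) (hs₁ : z₁ s = s) (hθ : z θ = -θ) (hθ' : z θ' = -θ') : B s θ θ' = 0 := by
  obtain ⟨a, b, ha, hb, rfl, hab⟩ := split θ
  obtain ⟨a', b', ha', hb', rfl, hab'⟩ := split θ'
  obtain ⟨ga, gb⟩ := hab hθ
  obtain ⟨ga', gb'⟩ := hab' hθ'
  have e1 : B s a a' = 0 := zero_z₁ h h0 hs₁ ha ha'
  have e2 : B s b b' = 0 := by
    refine zero_z₂ h h0 ?_ ?_ ?_
    · rw [hs₁, hs]
    · rw [hb, map_neg, gb, neg_neg]
    · rw [hb', map_neg, gb', neg_neg]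
  have e3 : B s a b' = 0 := by
    have h1 := h.inv z₁ z₁_mem_G s a b'
    rw [hs₁, ha, hb', h.lin.neg₃] at h1
    linarith
  have e4 : B s b a' = 0 := by
    have h1 := h.inv z₁ z₁_mem_G s b a'
    rw [hs₁, hb, ha', h.lin.neg₂] at h1
    linarith only [h1]
  rw [h.lin.add₂, h.lin.add₃, h.lin.add₃, e1, e2, e3, e4]
  norm_num

theorem Q_u {q : V ≃ₗ[ℚ] V} (hq : q ∈ Q) (v : leechLattice) : q (u v) = u v := by
  rw [ind_Q q hq v, one_smul]

theorem z₁_X01 : z₁ (Xv (xl 62465)) = Xv (xl 62465) := by
  have e0 : z (sv P0 P1) = sv P0 P1 := z_Zv (Submodule.span_mono Set.subset_union_left (sv_mem _ _))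
  have e1 : z (τ (sv P0 P1)) = τ (sv P0 P1) :=
    z_Zv (Submodule.span_mono Set.subset_union_right τ_mem.1)
  rw [X01_eq, map_smul, map_add, ← τz, ← τz, e0, e1]

theorem sθθ' (h : GInv B) (h0 : ∀ x ∈ Zv, ∀ y ∈ Zv, ∀ w ∈ Zv, B x y w = 0) {s : V} (hs : s ∈ Zv) :
    ∀ {θ θ' : V}, z θ = -θ → z θ' = -θ' → B s θ θ' = 0 := by
  induction hs using Submodule.span_induction with
  | mem s hs =>
    intro θ θ' hθ hθ'
    rcases hs with ⟨v, rfl⟩ | ⟨x, hx, rfl⟩
    · exact sθθ h h0 (Q_u ProgM.Inv.z_mem_Q v) (Q_u (E_mem_Q (by norm_num)) v) hθ hθ'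
    · have m1 : xl 62465 ∈ Sh := xl_mem SL1.2.1
      obtain ⟨k, hk, A, α, T, hAct, hα⟩ := trans_Sh lft (xl 62465) x m1 hx
      have hkC : k.1 ∈ Conc.C := Subgroup.mem_subgroupOf.1 hk
      have h2 : k.1 (Xv (xl 62465)) = Xv x := by
        have := hAct.act_X _ m1
        rw [hα] at this
        exact this
      have key : ∀ θ : V, z θ = -θ → z (k.1⁻¹ θ) = -(k.1⁻¹ θ) := by
        intro θ hθ
        have h3 := RelAll.z_comm_C _ (inv_mem hkC)
        have h4 : k.1⁻¹ (z θ) = z (k.1⁻¹ θ) := congrArg (fun f : V ≃ₗ[ℚ] V => f θ) h3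
        rw [← h4, hθ, map_neg]
      have eθ : θ = k.1 (k.1⁻¹ θ) := (k.1.apply_symm_apply θ).symm
      have eθ' : θ' = k.1 (k.1⁻¹ θ') := (k.1.apply_symm_apply θ').symm
      rw [← h2, eθ, eθ', h.inv k.1 k.2]
      exact sθθ h h0 (z_Zv (Submodule.subset_span (Or.inr ⟨_, m1, rfl⟩))) z₁_X01 (key θ hθ)
        (key θ' hθ')
  | zero => intro θ θ' _ _; exact h.lin.zero₁ _ _
  | add a b _ _ ha hb =>
    intro θ θ' hθ hθ'
    rw [h.lin.add₁, ha hθ hθ', hb hθ hθ', add_zero]
  | smul c a _ ha =>
    intro θ θ' hθ hθ'
    rw [h.lin.smul₁, ha hθ hθ', smul_zero]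

/-- An invariant trilinear form with one value zero is zero. -/
theorem core (h : GInv B) (h0 : B (sv P0 P0) (Xv (xl 62465)) (Xv (xl 62465)) = 0) (x y w : V) :
    B x y w = 0 := by
  have hZ := zero_Zv h h0
  have hZ₂ : ∀ x ∈ Zv, ∀ y ∈ Zv, ∀ w ∈ Zv, (fun x y w => B y x w) x y w = 0 :=
    fun x hx y hy w hw => hZ y hy x hx w hw
  have hZ₃ : ∀ x ∈ Zv, ∀ y ∈ Zv, ∀ w ∈ Zv, (fun x y w => B y w x) x y w = 0 :=
    fun x hx y hy w hw => hZ y hy w hw x hx
  obtain ⟨s, hs, θ, hθ, rfl⟩ := decomp x
  obtain ⟨s', hs', θ', hθ', rfl⟩ := decomp y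
  obtain ⟨s'', hs'', θ'', hθ'', rfl⟩ := decomp w
  have e0 : B s s' s'' = 0 := hZ s hs s' hs' s'' hs''
  have e1 : B s θ' θ'' = 0 := sθθ' h hZ hs hθ' hθ''
  have e2 : B θ s' θ'' = 0 := sθθ' h.s12 hZ₂ hs' hθ hθ''
  have e3 : B θ θ' s'' = 0 := sθθ' h.s23.s12 hZ₃ hs'' hθ hθ'
  have f0 : B θ θ' θ'' = 0 := by
    have h1 := h.inv z z_mem_G θ θ' θ''
    rw [hθ, hθ', hθ'', h.lin.neg₁, h.lin.neg₂, h.lin.neg₃] at h1
    linarith only [h1]
  have f1 : B θ s' s'' = 0 := by
    have h1 := h.inv z z_mem_G θ s' s''
    rw [hθ, z_Zv hs', z_Zv hs'', h.lin.neg₁] at h1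
    linarith only [h1]
  have f2 : B s θ' s'' = 0 := by
    have h1 := h.inv z z_mem_G s θ' s''
    rw [hθ', z_Zv hs, z_Zv hs'', h.lin.neg₂] at h1
    linarith only [h1]
  have f3 : B s s' θ'' = 0 := by
    have h1 := h.inv z z_mem_G s s' θ''
    rw [hθ'', z_Zv hs, z_Zv hs', h.lin.neg₃] at h1
    linarith only [h1]
  simp only [h.lin.add₁, h.lin.add₂, h.lin.add₃]
  rw [e0, e1, e2, e3, f0, f1, f2, f3]
  norm_num

end Cfsg.Agent.H850.Core2
end

-- part: H850/Bil
section
/-!
# The invariant bilinear forms (helper850)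
-/

set_option autoImplicit false

namespace Cfsg.Agent.H850.Bil

open Cfsg Cfsg.Agent.MonsterX Cfsg.Agent.MonsterX.Space Cfsg.Agent.MonsterX.USide
open Cfsg.Agent.MonsterX.UOnto Cfsg.Agent.MonsterX.Short Cfsg.Agent.MonsterX.KRows
open Cfsg.Agent.MonsterX.KAsm Cfsg.Agent.MonsterX.LabPl Cfsg.Agent.MonsterX.KInst
open Cfsg.Agent.MonsterX.Conc Cfsg.Agent.MonsterX.KDone
open Cfsg.Agent.MonsterX.KSide Cfsg.Agent.MonsterX.Lat Cfsg.Agent.MonsterX.CoGens
open Cfsg.Agent.MonsterX.KLift Cfsg.Agent.MonsterP.SChar
open Cfsg.Agent.Leech.Trans Cfsg.Agent.Leech.TransPair Cfsg.Agent.Leech.Co0Elts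
open Cfsg.Agent.H850.TriA Cfsg.Agent.H850.Coord Cfsg.Agent.H850.Parity Cfsg.Agent.H850.Func
open Cfsg.Agent.H850.Diag Cfsg.Agent.H850.Diag2 Cfsg.Agent.H850.TauData Cfsg.Agent.H850.Core
open Cfsg.Agent.H850.Core2

/-- The group fixes the identity matrix. -/
theorem G_I {g : V ≃ₗ[ℚ] V} (hg : g ∈ Conc.G) : g I = I := by
  unfold Conc.G at hg
  induction hg using Subgroup.closure_induction with
  | mem g hg =>
    rcases hg with hg | hg
    · exact C_I hg
    · rw [Set.mem_singleton_iff.1 hg]; exact FieldsO.fix_idB 40 (by norm_num)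
  | one => rfl
  | mul a b _ _ ha hb => rw [LinearEquiv.mul_apply, hb, ha]
  | inv a _ ha =>
    have h1 : a⁻¹ (a I) = I := a.symm_apply_apply _
    rwa [ha] at h1

theorem G_F' {g : V ≃ₗ[ℚ] V} (hg : g ∈ Conc.G) (x y : V) : F' (g x) (g y) = F' x y := by
  unfold F'
  have h1 : F (g x) I = F x I := by
    nth_rewrite 1 [← G_I hg]; exact G_isom g hg x I
  have h2 : F I (g y) = F I y := by
    nth_rewrite 1 [← G_I hg]; exact G_isom g hg I y
  rw [h1, h2, G_isom g hg]

/-- An invariant bilinear form vanishing on the identity matrix. -/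
structure BInv (b : V → V → ℝ) : Prop where
  add₁ : ∀ x x' y, b (x + x') y = b x y + b x' y
  add₂ : ∀ x y y', b x (y + y') = b x y + b x y'
  smul₁ : ∀ (c : ℚ) x y, b (c • x) y = c * b x y
  smul₂ : ∀ (c : ℚ) x y, b x (c • y) = c * b x y
  inv : ∀ g ∈ Conc.G, ∀ x y, b (g x) (g y) = b x y
  id₂ : ∀ x, b x I = 0

variable {b : V → V → ℝ}

/-- The linear map `y ↦ b x y`. -/
noncomputable def BInv.r (h : BInv b) (x : V) : V →ₗ[ℚ] ℝ where
  toFun y := b x y
  map_add' y y' := h.add₂ x y y'
  map_smul' c y := by rw [h.smul₂, smulR]; rfl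

/-- The linear map `x ↦ b x y`. -/
noncomputable def BInv.l (h : BInv b) (y : V) : V →ₗ[ℚ] ℝ where
  toFun x := b x y
  map_add' x x' := h.add₁ x x' y
  map_smul' c x := by rw [h.smul₁, smulR]; rfl

theorem BInv.neg₂ (h : BInv b) (x y : V) : b x (-y) = -b x y := map_neg (h.r x) y

theorem min_span : Pu ≤ Submodule.span ℚ {w | ∃ v : leechLattice, nrm v = 32 ∧ w = u v} := by
  set S := Submodule.span ℚ {w | ∃ v : leechLattice, nrm v = 32 ∧ w = u v} with hS
  have m1 : ∀ {p q : GolayPt} (h : p ≠ q), (1 / 2 : ℚ) • sv p p + (1 / 2 : ℚ) • sv q q + sv p q ∈ S := by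
    intro p q h
    rw [← u_pp h]
    exact Submodule.subset_span ⟨_, Func.nrm_lv _ _ _ _ _ _ _, rfl⟩
  have m2 : ∀ {p q : GolayPt} (h : p ≠ q), (1 / 2 : ℚ) • sv p p + (1 / 2 : ℚ) • sv q q - sv p q ∈ S := by
    intro p q h
    rw [← u_pm h]
    exact Submodule.subset_span ⟨_, Func.nrm_lv _ _ _ _ _ _ _, rfl⟩
  have n1 : ∀ {p q : GolayPt}, p ≠ q → sv p q ∈ S := by
    intro p q h
    have h1 := Submodule.smul_mem S (1 / 2 : ℚ) (Submodule.sub_mem S (m1 h) (m2 h))
    rw [add_sub_sub_cancel, ← two_smul ℚ (sv p q), smul_smul] at h1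
    norm_num at h1
    exact h1
  have n2 : ∀ {p q : GolayPt}, p ≠ q → (1 / 2 : ℚ) • sv p p + (1 / 2 : ℚ) • sv q q ∈ S := by
    intro p q h
    have h1 := Submodule.sub_mem S (m1 h) (n1 h)
    rwa [add_sub_cancel_right] at h1
  have n3 : ∀ p : GolayPt, sv p p ∈ S := by
    intro p
    obtain ⟨q, hq⟩ := exists_nm {p} (by simp)
    obtain ⟨r, hr⟩ := exists_nm {p, q} (lt_of_le_of_lt Finset.card_le_two (by norm_num))
    simp only [Finset.mem_insert, Finset.mem_singleton, not_or] at hq hr
    have h1 := Submodule.sub_mem S (Submodule.add_mem S (n2 (Ne.symm hq)) (n2 (Ne.symm hr.1)))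
      (n2 (Ne.symm hr.2))
    have e : (1 / 2 : ℚ) • sv p p + (1 / 2 : ℚ) • sv q q + ((1 / 2 : ℚ) • sv p p + (1 / 2 : ℚ) • sv r r) -
        ((1 / 2 : ℚ) • sv q q + (1 / 2 : ℚ) • sv r r) = (1 / 2 : ℚ) • sv p p + (1 / 2 : ℚ) • sv p p := by
      abel
    rw [e, ← add_smul] at h1
    norm_num at h1
    exact h1
  intro w hw
  have hw' := mem_span_iff_sv w hw
  refine (Submodule.span_le.2 ?_) hw'
  rintro _ ⟨p, q, rfl⟩
  by_cases hpq : p = q
  · subst hpq; exact n3 p
  · exact n1 hpq

/-- A form which vanishes on the 300-part is zero. -/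
theorem zero_of_uu (h : BInv b) (h0 : ∀ x ∈ Pu, ∀ y ∈ Pu, b x y = 0) (x y : V) : b x y = 0 := by
  -- the 300-part
  have s1 : ∀ a ∈ Pu, ∀ y, b a y = 0 := by
    intro a ha y
    have hza : z a = a := z_Zv (Submodule.span_mono Set.subset_union_left ha)
    obtain ⟨s, hs, θ, hθ, rfl⟩ := decomp y
    rw [h.add₂]
    have e1 : b a θ = 0 := by
      have h1 := h.inv z z_mem_G a θ
      rw [hza, hθ, h.neg₂] at h1
      linarith only [h1]
    have e2 : b a s = 0 := by
      induction hs using Submodule.span_induction with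
      | mem s hs =>
        rcases hs with ⟨v, rfl⟩ | ⟨x, hx, rfl⟩
        · exact h0 a ha _ (Diag.u_mem v)
        · obtain ⟨q, hq⟩ := nc_of_mem lft hx
          have h1 := h.inv (K.ι q : KInst.G).1 (K.ι q).2 a (Xv x)
          have h2 : ((K.ι q : KInst.G).1 : V ≃ₗ[ℚ] V) a = a := ι_PP K q ha
          have h3 : ((K.ι q : KInst.G).1 : V ≃ₗ[ℚ] V) (Xv x) = sg (chi K x q) • Xv x := ι_X' K q hx
          rw [h2, h3, hq, sg_one, h.smul₂] at h1
          push_cast at h1
          linarith only [h1]
      | zero => exact map_zero (h.r a)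
      | add c d _ _ hc hd => rw [h.add₂, hc, hd, add_zero]
      | smul c d _ hd => rw [h.smul₂, hd, mul_zero]
    rw [e1, e2, add_zero]
  have sτ : ∀ x, (∀ y, b x y = 0) → ∀ y, b (τ x) y = 0 := by
    intro x hx y
    obtain ⟨y, rfl⟩ := τ.surjective y
    rw [h.inv τ τ_mem_G]; exact hx y
  have s2 : ∀ y, b (Xv (xl 62465)) y = 0 := by
    intro y
    have e1 := sτ _ (s1 _ (sv_mem P0 P1))
    rw [X01_eq, h.smul₁, h.add₁, e1, sτ _ e1]
    ring
  have s3 : ∀ s ∈ Zv, ∀ y, b s y = 0 := by
    intro s hs y
    induction hs using Submodule.span_induction with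
    | mem s hs =>
      rcases hs with ⟨v, rfl⟩ | ⟨x, hx, rfl⟩
      · exact s1 _ (Diag.u_mem v) y
      · have m1 : xl 62465 ∈ Sh := xl_mem SL1.2.1
        obtain ⟨k, hk, A, α, T, hAct, hα⟩ := trans_Sh lft (xl 62465) x m1 hx
        have h2 : k.1 (Xv (xl 62465)) = Xv x := by
          have := hAct.act_X _ m1
          rw [hα] at this
          exact this
        obtain ⟨y, rfl⟩ := k.1.surjective y
        rw [← h2, h.inv k.1 k.2]
        exact s2 y
    | zero => exact map_zero (h.l y)
    | add c d _ _ hc hd => rw [h.add₁, hc, hd, add_zero]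
    | smul c d _ hd => rw [h.smul₁, hd, mul_zero]
  have s4 : ∀ a, z₁ a = a → ∀ y, b a y = 0 := by
    intro a ha y
    obtain ⟨a, rfl⟩ := τ.surjective a
    rw [← τz] at ha
    exact sτ a (s3 a (mem_Zv (τ.injective ha))) y
  have s5 : ∀ a, z (z₁ a) = a → ∀ y, b a y = 0 := by
    intro a ha y
    obtain ⟨a, rfl⟩ := τ.surjective a
    rw [← τz₁] at ha
    exact sτ a (s4 a (τ.injective ha)) y
  obtain ⟨s, hs, θ, hθ, rfl⟩ := decomp x
  obtain ⟨a, a', ha, ha', rfl, hab⟩ := split θ
  obtain ⟨g1, g2⟩ := hab hθ
  rw [h.add₁, h.add₁, s3 s hs, s4 a ha, s5 a' (by rw [ha', map_neg, g2, neg_neg])]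
  norm_num

/-- **The invariant bilinear forms.** -/
theorem bil (h : BInv b) : ∃ c : ℝ, ∀ x y, b x y = c * F' x y := by
  obtain ⟨κ, hκ⟩ := classify₀ h01 (h.r (u (v0 P0 P1 h01))) (by
    intro A hA v
    obtain ⟨k, hkC, hk⟩ := onto A
    show b _ (u (A • v)) = b _ (u v)
    have e : u (v0 P0 P1 h01) = k (u (v0 P0 P1 h01)) := by rw [hk, hA]
    rw [← hk v]
    nth_rewrite 1 [e]
    exact h.inv k (C_le_G hkC) _ _) (h.id₂ _)
  have h1 : ∀ v : leechLattice, nrm v = 32 → ∀ w ∈ Pu, b (u v) w = κ * F' (u v) w := by
    intro v hv w hw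
    obtain ⟨g, hg⟩ := co0_transitive_min (v0 P0 P1 h01) v (MonsterP.LeechTriple.nrm_v0 h01) hv
    obtain ⟨k, hkC, hk⟩ := onto g
    have e : u v = k (u (v0 P0 P1 h01)) := by rw [hk, hg]
    have ew : w = k (k⁻¹ w) := (k.apply_symm_apply w).symm
    have hw' : k⁻¹ w ∈ Pu := C_Pu (inv_mem hkC) hw
    have h1 := hκ _ hw'
    rw [e, ew, C_F' hkC, ← h1]
    exact h.inv k (C_le_G hkC) _ _
  have h2 : BInv (fun x y => b x y - κ * F' x y) := by
    refine ⟨?_, ?_, ?_, ?_, ?_, ?_⟩
    · intro x x' y
      rw [h.add₁]
      unfold F'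
      simp only [map_add, LinearMap.add_apply]
      push_cast; ring
    · intro x y y'
      rw [h.add₂]
      unfold F'
      simp only [map_add]
      push_cast; ring
    · intro c x y
      rw [h.smul₁]
      unfold F'
      simp only [map_smul, LinearMap.smul_apply, smul_eq_mul]
      push_cast; ring
    · intro c x y
      rw [h.smul₂]
      unfold F'
      simp only [map_smul, smul_eq_mul]
      push_cast; ring
    · intro g hg x y
      rw [h.inv g hg, G_F' hg]
    · intro x
      rw [h.id₂]
      unfold F'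
      rw [F_I_I]
      push_cast; ring
  refine ⟨κ, fun x y => ?_⟩
  have h3 := zero_of_uu h2 ?_ x y
  · have h3' : b x y - κ * F' x y = 0 := h3
    linarith
  · intro x hx y hy
    have hle : Submodule.span ℚ {w | ∃ v : leechLattice, nrm v = 32 ∧ w = u v} ≤
        LinearMap.ker (h2.l y) := by
      rw [Submodule.span_le]
      rintro _ ⟨v, hv, rfl⟩
      show b (u v) y - κ * F' (u v) y = 0
      rw [h1 v hv y hy, sub_self]
    exact hle (min_span hx)

end Cfsg.Agent.H850.Bil
end

private theorem dce_deb952bfb5b7 : _root_.True := by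
  try have : _root_.True := by simp only [_root_.Cfsg.Agent.H850.Parity.oddS.eq_1]
  exact _root_.True.intro
end

-- part: H850/Exist2
section
set_option linter.all false
open scoped Cfsg.Agent.FastGrp

-- part: H850/MatTab
section
/-!
# The matrices of the representatives of the orbits of axes (helper850)

`tabT j` : the entries of `2 ^ 7` times the matrix of `d j`, in fields of 16 bits, with offset `32768`.
-/

set_option autoImplicit false
set_option maxRecDepth 100000
set_option Elab.async false
set_option maxHeartbeats 4000000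

namespace Cfsg.Agent.H850.MatTab

open Cfsg Cfsg.Agent.Monster.VecEngine Cfsg.Agent.Monster Cfsg.Agent.Monster.VecSpace
open Cfsg.Agent.MonsterX.ProgBase Cfsg.Agent.MonsterX.Space Cfsg.Agent.MonsterX.MatAct
open Cfsg.Agent.MonsterX.ProgTable Cfsg.Agent.MonsterX.Conc Cfsg.Agent.MonsterX.InstData
open Cfsg.Agent.MonsterX.InstEval

/-- The sum of the first values. -/
noncomputable def sumZ (n : ℕ) (f : ℕ → ℤ) : ℤ := Nat.rec (motive := fun _ => ℤ) 0 (fun i ih => Int.add ih (f i)) n

theorem sumZ_eq (n : ℕ) (f : ℕ → ℤ) : sumZ n f = ∑ i ∈ Finset.range n, f i := by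
  induction n with
  | zero => rfl
  | succ n ih =>
    rw [Finset.sum_range_succ, ← ih]
    rfl

/-- All values below a bound. -/
noncomputable def allZ (n : ℕ) (f : ℕ → Bool) : Bool := Nat.rec (motive := fun _ => Bool) true (fun i ih => and (f i) ih) n

theorem allZ_spec {n : ℕ} {f : ℕ → Bool} (h : allZ n f = true) : ∀ i < n, f i = true := by
  induction n with
  | zero => intro i hi; omega
  | succ n ih =>
    have h' : and (f n) (allZ n f) = true := h
    rw [Bool.and_eq_true] at h'
    intro i hi
    rcases Nat.lt_succ_iff_lt_or_eq.1 hi with h2 | rfl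
    · exact ih h'.2 i h2
    · exact h'.1

/-- The entry `(a, b)` of a table. -/
noncomputable def gt (T a b : ℕ) : ℤ :=
  Int.subNatNat (Nat.land (Nat.shiftRight T (Nat.mul 16 (Nat.add (Nat.mul 24 a) b))) 65535) 32768

/-- The check that the matrix of the planes `y` is the table. -/
noncomputable def okTab (T : ℕ) (y : Pl) : Bool :=
  allZ 24 fun a => allZ 24 fun b => valIs y (ln a b) (gt T a b)

/-- The three traces. -/
noncomputable def tr1 (T : ℕ) : ℤ := sumZ 24 fun a => gt T a a
noncomputable def tr2 (T : ℕ) : ℤ := sumZ 24 fun a => sumZ 24 fun b => Int.mul (gt T a b) (gt T b a)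
noncomputable def tr3 (T : ℕ) : ℤ := sumZ 24 fun a => sumZ 24 fun b =>
  Int.mul (gt T a b) (sumZ 24 fun c => Int.mul (gt T b c) (gt T c a))

/-- The check of one representative. -/
noncomputable def chkT (T j : ℕ) (t1 t2 t3 : ℤ) : Bool :=
  and (runL ((bj j).map prog) (up 7 a0B) (okTab T))
    (and (decide (tr1 T = t1)) (and (decide (tr2 T = t2)) (decide (tr3 T = t3))))

/-- The field `(a, b)` of a table. -/
private noncomputable def ge (T a b : ℕ) : ℕ := Nat.land (Nat.shiftRight T (Nat.mul 16 (Nat.add (Nat.mul 24 a) b))) 65535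

/-- The product with an entry. -/
private noncomputable def mz (T a b : ℕ) (x : ℤ) : ℤ := Bool.rec (Int.mul (gt T a b) x) 0 (Nat.beq (ge T a b) 32768)

private theorem gt_zero (T a b : ℕ) : decide (0 = gt T a b) = Nat.beq (ge T a b) 32768 := by
  rw [Bool.eq_iff_iff, decide_eq_true_eq, Nat.beq_eq]
  show 0 = Int.subNatNat (ge T a b) 32768 ↔ _
  rw [Int.subNatNat_eq_coe]
  omega

private theorem mz_eq (T a b : ℕ) (x : ℤ) : Int.mul (gt T a b) x = mz T a b x := by
  delta mz
  cases h : Nat.beq (ge T a b) 32768 with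
  | false => rfl
  | true =>
    rw [← of_decide_eq_true ((gt_zero T a b).trans h)]
    exact Int.zero_mul x

/-- The union of the planes. -/
private noncomputable def orP (y : Pl) : ℕ := Pl.rec (fun s => s) (fun p _ ih => Nat.lor p ih) y

private theorem val_zero (i : ℕ) : ∀ y : Pl, (orP y).testBit i = false → val y i = 0
  | .sgn s, h => by
    rw [val_sgn]
    delta bt
    rw [show s.testBit i = false from h]
    rfl
  | .cons p L, h => by
    have h1 : (p ||| orP L).testBit i = false := h
    rw [Nat.testBit_or, Bool.or_eq_false_iff] at h1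
    rw [val_cons, val_zero i L h1.2]
    delta bt
    rw [h1.1]
    rfl

/-- The check of the table that passes over the empty lanes. -/
private noncomputable def okF (T : ℕ) (y : Pl) : Bool :=
  Nat.rec true (fun O _ => allZ 24 fun a => allZ 24 fun b => Bool.rec (valIs y (ln a b) (gt T a b)) (Nat.beq (ge T a b) 32768)
    (Nat.beq (Nat.land 1 (Nat.shiftRight O (ln a b))) 0)) (Nat.succ (orP y))

private theorem okF_one (T a b i : ℕ) (y : Pl) : valIs y i (gt T a b) = Bool.rec (valIs y i (gt T a b)) (Nat.beq (ge T a b) 32768)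
    (Nat.beq (Nat.land 1 (Nat.shiftRight (orP y) i)) 0) := by
  cases h : Nat.beq (Nat.land 1 (Nat.shiftRight (orP y) i)) 0 with
  | false => rfl
  | true =>
    have h1 : (orP y).testBit i = false := by
      show (1 &&& (orP y >>> i) != 0) = false
      rw [show 1 &&& (orP y >>> i) = 0 from Nat.eq_of_beq_eq_true h]
      rfl
    delta valIs
    rw [val_zero _ y h1]
    exact gt_zero T a b

private theorem okF_eq (T : ℕ) : okTab T = okF T := funext fun y =>
  congrArg (allZ 24) (funext fun a => congrArg (allZ 24) (funext fun b => okF_one T a b (ln a b) y))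

private theorem chk_eq (T j : ℕ) (t1 t2 t3 : ℤ) : chkT T j t1 t2 t3 = and (runL ((bj j).map prog) (up 7 a0B) (okF T))
    (and (decide (tr1 T = t1)) (and (decide ((sumZ 24 fun a => sumZ 24 fun b => mz T a b (gt T b a)) = t2))
    (decide ((sumZ 24 fun a => sumZ 24 fun b => mz T a b (sumZ 24 fun c => mz T b c (gt T c a))) = t3)))) := by
  delta chkT tr2 tr3
  simp only [mz_eq, okF_eq]

/-- The table of `d 0`. -/
noncomputable def T0 : ℕ := 0x8000800080008000800080008000800080008000800080008000800080008000800080008000800080008000800080008000800080008000800080008000800080008000800080008000800080008000800080008000800080008000800080008000800080008000800080008000800080008000800080008000800080008000800080008000800080008000800080008000800080008000800080008000800080008000800080008000800080008000800080008000800080008000800080008000800080008000800080008000800080008000800080008000800080008000800080008000800080008000800080008000800080008000800080008000800080008000800080008000800080008000800080008000800080008000800080008000800080008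0008000800080008000800080008000800080008000800080008000800080008000800080008000800080008000800080008000800080008000800080008000800080008000800080008000800080008000800080008000800080008000800080008000800080008000800080008000800080008000800080008000800080008000800080008000800080008000800080008000800080008000800080008000800080008000800080008000800080008000800080008000800080008000800080008000800080008000800080008000800080008000800080008000800080008000800080008000800080008000800080008000800080008000800080008000800080008000800080008000800080008000800080008000800080008000800080008000800080008000800080008000800080008000800080008000800080008000800080008000800080008000800080008000800080008000800080008000800080008000800080008000800080008000800080008000800080008000800080008000800080008000800080008000800080008000800080008000800080008000800080008000800080008000800080008000800080008000800080008000800080008000800080008000800080008000800080008000800080008000800080008000800080008000800080008000800080008000800080008000800080008000800080008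0008000800080008000800080008000800080008000800080008000800080008000800080008000800080008000800080008000800080008000800080008000800080008000800080008000800080008000800080008000800080008000800080008000800080008000800080008000800080008000800080008000800080008000800080008000800080008000800080008000800080008000800080008000800080008000800080008000800080008000800080008000800080008000800080008000800080008000800080008000800080008000800080008000800080008000800080008000800080008000800080008000800080008000800080008000800080008000800080008000800080008000800080008000800080008000800080807f8080008000800080008000800080008000800080008000800080008000800080008000800080008000800080007f808080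

theorem c0 : chkT T0 0 256 65536 16777216 = true := (chk_eq _ _ _ _ _).trans (by decide +kernel)

/-- The table of `d 1`. -/
noncomputable def T1 : ℕ := 0x800080008000800080008000800080008000800080008000800080008000800080008000800080008000800080008000800080208000800080008000800080008000800080008000800080008000800080008000800080008000800080008000800080008000800080008000800080008000800080008000800080008000800080008000800080008000800080008000800080008000800080008000800080008000800080008000800080008000800080008000800080008000800080008000800080008000800080008000800080008000800080008000800080008000800080008000800080008000800080008000800080008000800080008000800080008000800080008000800080008000800080008000800080008000800080008000800080008000800080008000800080008000800080008000800080008000800080008000800080008000800080008000800080008000800080008000800080008000800080008000800080008000800080008000800080008000800080008000800080008000800080008000800080008000800080008000800080008000800080008000800080008000800080008000800080008000800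080008000800080008000800080008000800080008000800080008000800080008000800080008000800080008000800080008000800080008000800080008000800080008000800080008000800080008000800080008000800080008000800080008000800080008000800080008000800080008000800080008000800080008000800080008000800080008000800080008000800080008000800080008000802080008000800080008000800080008000800080008000800080008000800080008000800080008000800080008000800080008000800080008000800080008000800080008000800080008000800080008000800080008000800080008000800080008020800080008000800080008000800080008000800080008000800080008000800080008000800080008000800080008000800080008000800080008000800080008000800080008000800080008000800080008000800080008000800080008000800080008000800080008000800080008000800080008000800080008000800080008000800080008000800080008000800080008020800080008000800080008000800080008000800080008000800080008000800080008000800080008000800080008000800080008000800080008000800080008000800080008000800080008000800080008000800080008000800080008000800080008000800080008000800080008000800080008000800080008000800080008000800080008000800080008000800080008020800080008000800080008000800080008000800080008000800080008000800080008000800080008000800080008000802080008000800080008000800080008000800080008000800080008000800080008000800080008000800080008000800080208000800080008000800080008000800080008000800080008000800080008000800080008000800080008000800080008020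

theorem c1 : chkT T1 1 256 8192 262144 = true := (chk_eq _ _ _ _ _).trans (by decide +kernel)

/-- The table of `d 2`. -/
noncomputable def T2 : ℕ := 0x800880008000800080008000800080008000800080008000800080008000800080008000800080008000800080008000800080088000800080008000800080008000800080008000800080008000800080008000800080008000800080008000800080008008800080008000800080008000800080008000800080008000800080008000800080008000800080008000800080008000800880008000800080008000800080008000800080008000800080008000800080008000800080008000800080008000800080088000800080008000800080008000800080008000800080008000800080008000800080008000800080008000800080008008800080008000800080008000800080008000800080008000800080008000800080008000800080008000800080008000800880008000800080008000800080008000800080008000800080008000800080008000800080008000800080008000800080088000800080008000800080008000800080008000800080008000800080008000800080008000800080008000800080008008800080008000800080008000800080008000800080008000800080008000800080008000800080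008000800080008000800880008000800080008000800080008000800080008000800080008000800080008000800080008000800080008000800080088000800080008000800080008000800080008000800080008000800080008000800080008000800080008000800080008008800080008000800080008000800080008000800080008000800080008000800080008000800080008000800080008000800880008000800080008000800080008000800080008000800080008000800080008000800080008000800080008000800080088000800080008000800080008000800080008000800080008000800080008000800080008000800080008000800080008008800080008000800080008000800080008000800080008000800080008000800080008000800080008000800080008000800880008000800080008000800080008000800080008000800080008000800080008000800080008000800080008000800080088000800080008000800080008000800080008000800080008000800080008000800080008000800080008000800080008008800080008000800080008000800080008000800080008000800080008000800080008000800080008000800080008000800880008000800080008000800080008000800080008000800080008000800080008000800080008000800080008000800080088000800080008000800080008000800080008000800080008000800080008000800080008000800080008000800080008048800080008000800080008000800080008000800080008000800080008000800080008000800080008000800080008000800880008000800080008000800080008000800080008000800080008000800080008000800080008000800080008000800080088000800080008000800080008000800080008000800080008000800080008000800080008000800080008000800080008008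

theorem c2 : chkT T2 2 256 6656 385024 = true := (chk_eq _ _ _ _ _).trans (by decide +kernel)

/-- The table of `d 3`. -/
noncomputable def T3 : ℕ := 0x800c8000800080008000800080008000800080008000800080008000800080008000800080008000800080008000800080008004800080008000800080008000800080008000800080008000800080008000800080008000800080008000800080008000800c800080008000800080008000800080008000800080008000800080008000800080008000800080008000800080008000800c800080008000800080008000800080008000800080008000800080008000800080008000800080008000800080008000800c800080008000800080008000800080008000800080008000800080008000800080008000800080008000800080008000800c800080008000800080008000800080008000800080008000800080008000800080008000800080008000800080008000800c800080008000800080008000800080008000800080008000800080008000800080008000800080008000800080008000800c800080008000800080008000800080008000800080008000800080008000800080008000800080008000800080008000800c800080008000800080008000800080008000800080008000800080008000800080008000800080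008000800080008000800c800080008000800080008000800080008000800080008000800080008000800080008000800080008000800080008000800c800080008000800080008000800080008000800080008000800080008000800080008000800080008000800080008000800c8000800080008000800080008000800080008000800080008000800080008000800080008000800080008000800080008004800080008000800080008000800080008000800080008000800080008000800080008000800080008000800080008000800c8000800080008000800080008000800080008000800080008000800080008000800080008000800080008000800080008004800080008000800080008000800080008000800080008000800080008000800080008000800080008000800080008000800c800080008000800080008000800080008000800080008000800080008000800080008000800080008000800080008000800c8000800080008000800080008000800080008000800080008000800080008000800080008000800080008000800080008004800080008000800080008000800080008000800080008000800080008000800080008000800080008000800080008000800c800080008000800080008000800080008000800080008000800080008000800080008000800080008000800080008000800c8000800080008000800080008000800080008000800080008000800080008000800080008000800080008000800080008004800080008000800080008000800080008000800080008000800080008000800080008000800080008000800080008000800480008000800080008000800080008000800080008000800080008000800080008000800080008000800080008000800080147ff080008000800080008000800080008000800080008000800080008000800080008000800080008000800080007ff08014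

theorem c3 : chkT T3 3 256 3712 74752 = true := (chk_eq _ _ _ _ _).trans (by decide +kernel)

/-- The table of `d 4`. -/
noncomputable def T4 : ℕ := 0x8008800080008000800080008000800080008000800080008000800080008000800080008000800080008000800080008000800880008000800080008000800080008000800080008000800080008000800080008000800080008000800080008000800080088000800080008000800080008000800080008000800080008000800080008000800080008000800080008000800080008008800080008000800080008000800080008000800080008000800080008000800080008000800080008000800080008000800880008000800080008000800080008000800080008000800080008000800080008000800080008000800080008000800080088000800080008000800080008000800080008000800080008000800080008000800080008000800080008000800080008008800080008000800080008000800080008000800080008000800080008000800080008000800080008000800080008000800880008000800080008000800080008000800080008000800080008000800080008000800080008000800080008000800080088000800080008000800080008000800080008000800080008000800080008000800080008000800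08000800080008000800880008000800080008000800080008000800080008000800080008000800080008000800080008000800080008000800080088000800080008000800080008000800080008000800080008000800080008000800080008000800080008000800080008010800080008000800080008000800080008000800080008000800080008000800080008000800080008000800080008000800880008000800080008000800080008000800080008000800080008000800080008000800080008000800080008000800080108000800080008000800080008000800080008000800080008000800080008000800080008000800080008000800080008008800080008000800080008000800080008000800080008000800080008000800080008000800080008000800080008000800880008000800080008000800080008000800080008000800080008000800080008000800080008000800080008000800080108000800080008000800080008000800080008000800080008000800080008000800080008000800080008000800080008008800080008000800080008000800080008000800080008000800080008000800080008000800080008000800080008000800880008000800080008000800080008000800080008000800080008000800080008000800080008000800080008000800080108000800080008000800080008000800080008000800080008000800080008000800080008000800080008000800080008010800080008000800080008000800080008000800080008000800080008000800080008000800080008000800080008000801080008000800080008000800080008000800080008000800080008000800080008000800080008000800080008000800080108000800080008000800080008000800080008000800080008000800080008000800080008000800080008000800080008010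

theorem c4 : chkT T4 4 256 3072 40960 = true := (chk_eq _ _ _ _ _).trans (by decide +kernel)

/-- The table of `d 5`. -/
noncomputable def T5 : ℕ := 0x8009800080008000800080008000800080008000800080008000800080008000800080008000800080008000800080008000800980008000800080008000800080008000800080008000800080008000800080008000800080008000800080008000800080098000800080008000800080008000800080008000800080008000800080008000800080008000800080008000800080008009800080008000800080008000800080008000800080008000800080008000800080008000800080008000800080008000800980008000800080008000800080008000800080008000800080008000800080008000800080008000800080008000800080098000800080008000800080008000800080008000800080008000800080008000800080008000800080008000800080008009800080008000800080008000800080008000800080008000800080008000800080008000800080008000800080008000800980008000800080008000800080008000800080008000800080008000800080008000800080008000800080008000800080098000800080008000800080008000800080008000800080008000800080008000800080008000800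080008000800080008009800080008000800080008000800080008000800080008000800080008000800080008000800080008000800080008000800980008000800080008000800080008000800080008000800080008000800080008000800080008000800080008000800080098000800080008000800080008000800080008000800080008000800080008000800080008000800080008000800080008009800080008000800080008000800080008000800080008000800080008000800080008000800080008000800080008000802180008000800080008000800080008000800c800c8000800080008000800080008000800080008000800080008000800080098000800080008000800080008000800080008000800080008000800080008000800080008000800080008000800080008009800080008000800080008000800080008000800080008000800080008000800080008000800080008000800080008000800980008000800080008000800080008000800080008000800080008000800080008000800080008000800080008000800080098000800080008000800080008000800080008000800080008000800080008000800080008000800080008000800080008009800080008000800080008000800080008000800080008000800080008000800080008000800080008000800080008000800980008000800080008000800080008000800080008000800080008000800080008000800080008000800080008000800080098000800080008000800080008000800080008000800080008000800080008000800080008000800080008000800080008009800080008000800080008000800080008000800080008000800080008000800c80008000800080008000800080008000801180048000800080008000800080008000800080008000800080008000800c8000800080008000800080008000800080048011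

theorem c5 : chkT T5 5 256 3976 109360 = true := (chk_eq _ _ _ _ _).trans (by decide +kernel)

/-- The table of `d 6`. -/
noncomputable def T6 : ℕ := 0x800980008000800080008000800080008000800080008000800080008000800080008000800080008000800080008000800080118000800080008000800080008000800080008000800080008000800080008000800080008000800080008000800080008009800080008000800080008000800080008000800080008000800080008000800080008000800080008000800080008000801180008000800080008000800080008000800080008000800080008000800080008000800080008000800080008000800080098000800080008000800080008000800080008000800080008000800080008000800080008000800080008000800080008009800080008000800080008000800080008000800080008000800080008000800080008000800080008000800080008000800980008000800080008000800080008000800080008000800080008000800080008000800080008000800080008000800080098000800080008000800080008000800080008000800080008000800080008000800080008000800080008000800080008011800080008000800080008000800080008000800080008000800080008000800080008000800080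00800080008000800080098000800080008000800080008000800080008000800080008000800080008000800080008000800080008000800080008009800080008000800080008000800080008000800080008000800080008000800080008000800080008000800080008000800980008004800080007ffc800080008000800080008000800080008000800080008000800080008000800080008000800080098000800080008000800080008000800080008000800080008000800080008000800080008000800080008000800480008009800080007ffc8000800080008000800080008000800080008000800080008000800080008000800080008000800080008009800080008000800080008000800080008000800080008000800080008000800080008000800080008000800080008000800980008000800080008000800080008000800080008000800080008000800080008000800080007ffc80007ffc8000800080098000800080008000800080008000800080008000800080008000800080008000800080008000800080008000800080008009800080008000800080008000800080008000800080008000800080008000800080008000800080008000800080008000801180008000800080008000800080008000800080008000800080008000800080008000800080008000800080008000800080098000800080008000800080008000800080008000800080008000800080008000800080008000800080008000800080008009800080008000800080008000800080008000800080008000800080008000800080008000800080008000800080008000800980008000800080008000800080008000800080008000800080008000800080008000800080008000800080008000800080118000800080008000800080008000800080008000800080008000800080008000800080008000800080008000800080008009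

theorem c6 : chkT T6 6 256 3080 41392 = true := (chk_eq _ _ _ _ _).trans (by decide +kernel)

/-- The table of `d 7`. -/
noncomputable def T7 : ℕ := 0x800c80008000800080008000800080008000800080008000800080008000800080008000800080008000800080008000800080088000800080008000800080008000800080008000800080008000800080008000800080008000800080008000800080008008800080008000800080008000800080008000800080008000800080008000800080008000800080008000800080008000800c800080008000800080008000800080008000800080008000800080008000800080008000800080008000800080008000800c800080008000800080008000800080008000800080008000800080008000800080008000800080008000800080008000800c800080008000800080008000800080008000800080008000800080008000800080008000800080008000800080008000800c800080008000800080008000800080008000800080008000800080008000800080008000800080008000800080008000800c800080008000800080008000800080008000800080008000800080008000800080008000800080008000800080008000800c8000800080008000800080008000800080008000800080008000800080008000800080008000800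08000800080008000800c800080008000800080008000800080008000800080008000800080008000800080008000800080008000800080008000800880008000800080008000800080008000800080008000800080008000800080008000800080008000800080008000800080088000800080008000800080008000800080008000800080008000800080008000800080008000800080008000800080008008800080008000800080008000800080008000800080008000800080008000800080008000800080008000800080008000800c800080008000800080008000800080008000800080008000800080008000800080008000800080008000800080008000800c800080008000800080008000800080008000800080008000800080008000800080008000800080008000800080008000800c8000800080008000800080008000800080008000800080008000800080008000800080008000800080008000800080008008800080008000800080008000800080008000800080008000800080008000800080008000800080008000800080008000800c800080008000800080008000800080008000800080008000800080008000800080008000800080008000800080008000800c800080008000800080008000800080008000800080008000800080008000800080008000800080008000800080008000800c800080008000800080008000800080008000800080008000800080008000800080008000800080008000800080008000800c80008000800080008000800080008000800080008000800080008000800080008000800080008000800080008000800080088000800080008000800080008000800080008000800080008000800080008000800080008000800080008000800080008008800080008000800080008000800080008000800080008000800080008000800080008000800080008000800080008000800c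

theorem c7 : chkT T7 7 256 2816 31744 = true := (chk_eq _ _ _ _ _).trans (by decide +kernel)

/-- The table of `d 8`. -/
noncomputable def T8 : ℕ := 0x800c80008000800080008000800080008000800080008000800080008000800080008000800080008000800080008000800080088000800080008000800080008000800080008000800080008000800080008000800080008000800080008000800080008008800080008000800080008000800080008000800080008000800080008000800080008000800080008000800080008000800c80008000800080008000800080008000800080008000800080008000800080008000800080008000800080008000800080088000800080008000800080008000800080008000800080008000800080008000800080008000800080008000800080008008800080008000800080008000800080008000800080008000800080008000800080008000800080008000800080008000800c8000800080008000800080008000800080008000800080008000800080008000800080008000800080008000800080008008800080008000800080008000800080008000800080008000800080008000800080008000800080008000800080008000800c8000800080008000800080008000800080008000800080008000800080008000800080008000800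08000800080008000800c800080008000800080008000800080008000800080008000800080008000800080008000800080008000800080008000800c800080008000800080008000800080008000800080008000800080008000800080008000800080008000800080008000800880008000800080008000800080008000800080008000800080008000800080008000800080008000800080008000800080088000800080008000800080008000800080008000800080008000800080008000800080008000800080008000800080008008800080008000800080008000800080008000800080008000800080008000800080008000800080008000800080008000800c800080008000800080008000800080008000800080008000800080008000800080008000800080008000800080008000800c8000800080008000800080008000800080008000800080008000800080008000800080008000800080008000800080008008800080008000800080008000800080008000800080008000800080008000800080008000800080008000800080008000800c800080008000800080008000800080008000800080008000800080008000800080008000800080008000800080008000800c800080008000800080008000800080008000800080008000800080008000800080008000800080008000800080008000800880008000800080008000800080008000800080008000800080008000800080008000800080008000800080008000800080188000800080008000800080008000800080008000800080008000800080008000800080008000800080008000800080008008800080008000800080008000800080008000800080008000800080008000800080008000800080008000800080008000800c800080008000800080008000800080008000800080008000800080008000800080008000800080008000800080008000800c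

theorem c8 : chkT T8 8 256 3008 40192 = true := (chk_eq _ _ _ _ _).trans (by decide +kernel)

/-- The table of `d 9`. -/
noncomputable def T9 : ℕ := 0x800c800080008000800280008002800080008000800080008000800280008002800080008000800280008000800080048000800a800080008000800080008000800080008000800080008000800080008000800080008000800080008000800080008000800a800080008000800080008000800080008000800080008000800080008000800080008000800080008000800080008000800a800080008000800080008000800080008000800080008000800080008000800080008000800080008002800080008000800c800080028000800080008000800080008002800080028000800080008002800080008000800480008000800080008000800a800080008000800080008000800080008000800080008000800080008000800080008000800280008000800080028000800c800080008000800080008000800280008002800080008000800280008000800080048000800080008000800080008000800a800080008000800080008000800080008000800080008000800080008000800080008000800080008000800080008000800a8000800080008000800080008000800080008000800080008000800080008000800080008000800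08000800080008000800a800080008000800080008000800080008000800080008000800080008000800080008000800080008000800080008000800a800080008000800080008000800080008000800080008000800080008000800080008000800080008000800080008000800a800080008000800080008000800080008000800080008000800080008000800080008000800080008000800080008000800a800080008000800080008000800080008000800080008002800080008000800280008002800080008000800080008000800c800080028000800080008002800080008000800480008000800080008000800080008000800080008000800080008000800a800080008000800080008000800080008000800280008000800080028000800280008000800080008000800080028000800c800080008000800280008000800080048000800080008000800080008000800080008000800080008000800080008000800a800080008000800080008000800080008000800080008000800080008000800080008000800080008000800080008000800a800080008000800080008000800080008000800080008000800080008000800080008000800080008000800080008000800a800080008000800080008002800080008000800280008002800080008000800080008000800280008002800080008000800c800080008000800480008000800080008000800080008000800080008000800080008000800080008000800080008000800a800080008000800080008000800080008000800080008000800080008000800080008000800080008000800080008000800880028000800080008000800080008000800080008000800080008000800080008000800080008000800080008000800280088000800480008000800080048000800480008000800080008000800080048000800480008000800080048000800080008012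

theorem c9 : chkT T9 9 256 3136 49216 = true := (chk_eq _ _ _ _ _).trans (by decide +kernel)

/-- The table of `d 10`. -/
noncomputable def T10 : ℕ := 0x800a800080008000800080008000800080008000800080008000800080008000800080008000800080008000800080008000800a800080008000800080008000800080008000800080008000800080008000800080008000800080008000800080008000800c80007ffe7ffe80007ffe8000800080008000800080007ffe800080008002800080008000800080008000800080008000800a80008000800080008000800080008000800080008000800080008000800080008000800080008000800080007ffe8000800c7ffe800080028000800080008000800080008002800080008002800080008000800080008000800080007ffe80007ffe800c80007ffe8000800080008000800080008002800080007ffe800080008000800080008000800080008000800080008000800a80008000800080008000800080008000800080008000800080008000800080008000800080007ffe800080027ffe8000800c8000800080008000800080007ffe800080007ffe80008000800080008000800080008000800080008000800080008000800a80008000800080008000800080008000800080008000800080008000800080008000800080008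0008000800080008000800a800080008000800080008000800080008000800080008000800080008000800080008000800080008000800080008000800a800080008000800080008000800080008000800080008000800080008000800080008000800080008000800080008000800a800080008000800080008000800080008000800080008000800080008000800080008000800080008000800080008000800a800080008000800080008000800080008000800080008000800080008000800080008000800080008000800080008000800a8000800080008000800080008000800080008000800080007ffe80008002800280007ffe800080008000800080008000800c800080008002800080008000800080008000800080008000800080008000800080008000800080008000800080008000800a800080008000800080008000800080008000800080008000800080008000800080008000800080008000800080008000800a8000800080008000800080008000800080008002800080027ffe80007ffe800080008000800080008000800280008000800c800080008000800080008000800080008000800080008000800080008000800080008000800080008000800080008000800a800080008000800080008000800080008000800080008000800080008000800080008000800080008000800080008000800a80008000800080008000800080008000800080008000800080008000800080008000800080008000800080008000800080107ffe80008000800080008000800080008000800080008000800080008000800080008000800080008000800080007ffe8008800080008000800080008000800080008000800080008000800080008000800080008000800080008000800080008000800a800080008000800080008000800080008000800080008000800080008000800080008000800080008000800080008000800a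

theorem c10 : chkT T10 10 256 2912 35584 = true := (chk_eq _ _ _ _ _).trans (by decide +kernel)

/-- The table of `d 11`. -/
noncomputable def T11 : ℕ := 0x800b8000800080007ffe800080028000800080008000800080008002800080028000800080007ffe80008000800080008000800d80008000800080008000800080008000800080008000800080008000800080008000800080008000800080008000800080098000800080008000800080008000800080008000800080008000800080008000800080008000800080008000800080008009800080008000800080008000800080008000800080008000800080008000800080008000800080007ffe800080008000800b80007ffe8000800080008000800080007ffe80007ffe8000800080008002800080008000800080008000800080008000800980008000800080008000800080008000800080008000800080008000800080008000800080028000800080007ffe8000800b8000800080008000800080008002800080028000800080007ffe800080008000800080008000800080008000800080008009800080008000800080008000800080008000800080008000800080008000800080008000800080008000800080008000800980008000800080008000800080008000800080008000800080008000800080008000800080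0080008000800080008000800980008000800080008000800080008000800080008000800080008000800080008000800080008000800080008000800080098000800080008000800080008000800080008000800080008000800080008000800080008000800080008000800080008009800080008000800080008000800080008000800080008000800080008000800080008000800080008000800080008000800d8000800080008000800080008000800080008000800080028000800080007ffe80008002800080008000800080008000800b800080028000800080007ffe800080008000800080008000800080008000800080008000800080008000800080008000800d80008000800080008000800080008000800080028000800080007ffe8000800280008000800080008000800080028000800b8000800080007ffe800080008000800080008000800080008000800080008000800080008000800080008000800080008009800080008000800080008000800080008000800080008000800080008000800080008000800080008000800080008000800d8000800080008000800080008000800080008000800080008000800080008000800080008000800080008000800080008009800080008000800080007ffe800080008000800280007ffe8000800080008000800080007ffe80007ffe800080008000800b800080008000800080008000800080008000800080008000800080008000800080008000800080008000800080008000800d800080008000800080008000800080008000800080008000800080008000800080008000800080008000800080008000800b7ffe80008000800080008000800080008000800080008000800080008000800080008000800080008000800080007ffe800b800080008000800080008000800080008000800080008000800080008000800080008000800080008000800080008000800d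

theorem c11 : chkT T11 11 256 2920 36304 = true := (chk_eq _ _ _ _ _).trans (by decide +kernel)

end Cfsg.Agent.H850.MatTab
end

-- part: H850/Exist
section
/-!
# The reference trilinear form and its non-vanishing (helper850)
-/

set_option autoImplicit false

namespace Cfsg.Agent.H850.Exist

open Cfsg Cfsg.Agent.MonsterX Cfsg.Agent.MonsterX.Space Cfsg.Agent.MonsterX.USide
open Cfsg.Agent.Monster.VecEngine Cfsg.Agent.Monster Cfsg.Agent.Monster.VecSpace
open Cfsg.Agent.MonsterX.UOnto Cfsg.Agent.MonsterX.MatAct Cfsg.Agent.MonsterX.InstEval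
open Cfsg.Agent.MonsterX.ProgBase
open Cfsg.Agent.MonsterX.Conc Cfsg.Agent.MonsterX.InstData Cfsg.Agent.MonsterX.CoGens
open Cfsg.Agent.SporadicStructure.Co0Base Cfsg.Agent.Leech.Code
open Cfsg.Agent.H850.TriA Cfsg.Agent.H850.Coord Cfsg.Agent.H850.Parity Cfsg.Agent.H850.Func
open Cfsg.Agent.H850.Diag Cfsg.Agent.H850.Core Cfsg.Agent.H850.Bil Cfsg.Agent.H850.MatTab
open Cfsg.Agent.SporadicA.M24Gens (pidx pidx_injective)

/-! ### The matrix of a vector -/

theorem F_sv (v : V) (p q : GolayPt) : F v (sv p q) = 2 * v.1 (lane p q) := by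
  rw [F_symm, F_apply]
  show dotU ℚ U (uv p q + uv q p) v.1 = _
  have h : dotU ℚ U (uv p q + uv q p) v.1 = dotU ℚ U (uv p q) v.1 + dotU ℚ U (uv q p) v.1 := by
    unfold dotU
    rw [← Finset.sum_add_distrib]
    exact Finset.sum_congr rfl fun i _ => by rw [Pi.add_apply, add_mul]
  rw [h, dotU_uv, dotU_uv]
  have h3 := mem_Vs_iff.1 v.2 (lane p q)
  rw [trL_lane] at h3
  rw [h3]; ring

theorem F_I (v : V) : F v I = ∑ p, v.1 (lane p p) := by
  rw [I_eq, map_sum]
  refine Finset.sum_congr rfl fun p _ => ?_
  rw [map_smul, F_sv, smul_eq_mul]; ring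

/-- The matrix of a vector. -/
noncomputable def Sm (v : V) : Matrix GolayPt GolayPt ℚ := Matrix.of fun p q => v.1 (lane p q)

/-- The matrix of the projection of a vector. -/
noncomputable def Ab (v : V) : Matrix GolayPt GolayPt ℚ := Matrix.of fun p q => F' v (sv p q) / 2

theorem Ab_eq (v : V) : Ab v = Sm v - (F v I / 24) • (1 : Matrix GolayPt GolayPt ℚ) := by
  ext p q
  show F' v (sv p q) / 2 = v.1 (lane p q) - (F v I / 24) * (1 : Matrix GolayPt GolayPt ℚ) p q
  unfold F'
  rw [F_sv, F_I_sv, Matrix.one_apply]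
  split_ifs <;> ring

theorem F'_bq (v : V) (x y : GolayPt → ℚ) :
    F' v (bq x y) = (∑ p, ∑ q, x p * Ab v p q * y q) / 8 := by
  have hlin : ∀ w : V, F' v w = F v w - F v I / 24 * F I w := fun w => by unfold F'; ring
  have h1 : F' v (bq x y) = ∑ p, ∑ q, (x p * y q / 16) * F' v (sv p q) := by
    unfold bq
    simp only [hlin, map_sum, map_smul, smul_eq_mul, Finset.mul_sum]
    rw [← Finset.sum_sub_distrib]
    refine Finset.sum_congr rfl fun p _ => ?_
    rw [← Finset.sum_sub_distrib]
    refine Finset.sum_congr rfl fun q _ => ?_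
    ring
  rw [h1, Finset.sum_div]
  refine Finset.sum_congr rfl fun p _ => ?_
  rw [Finset.sum_div]
  refine Finset.sum_congr rfl fun q _ => ?_
  show _ = x p * (F' v (sv p q) / 2) * y q / 8
  ring

/-- The matrix of an image under `C`. -/
theorem Ab_C {k : V ≃ₗ[ℚ] V} (hk : k ∈ Conc.C) : ∃ O : Matrix GolayPt GolayPt ℚ,
    O.transpose * O = 1 ∧ ∀ v, Ab (k v) = O.transpose * Ab v * O := by
  obtain ⟨A, hA⟩ := exists_ind k hk
  have hA' := hA.inv
  refine ⟨Matrix.of fun r p => rt (A⁻¹ • e8 p) r / 8, ?_, fun v => ?_⟩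
  · ext p q
    rw [Matrix.mul_apply]
    have h1 : ∀ r, (Matrix.of fun r p => rt (A⁻¹ • e8 p) r / 8).transpose p r *
        (Matrix.of fun r p => rt (A⁻¹ • e8 p) r / 8) r q = rt (A⁻¹ • e8 p) r * rt (A⁻¹ • e8 q) r / 64 := by
      intro r
      show rt (A⁻¹ • e8 p) r / 8 * (rt (A⁻¹ • e8 q) r / 8) = _
      ring
    simp only [h1]
    rw [← Finset.sum_div, ← dot_rt, co0_dotInt, dot_rt, rt_e8, rt_e8, Matrix.one_apply]
    by_cases hpq : p = q
    · subst hpq
      rw [if_pos rfl, Finset.sum_eq_single p]
      · rw [Pi.single_eq_same]; norm_num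
      · intro r _ hr; rw [Pi.single_eq_of_ne hr]; norm_num
      · intro h; exact absurd (Finset.mem_univ _) h
    · rw [if_neg hpq]
      have : (∑ r, (Pi.single p (8 : ℚ) : GolayPt → ℚ) r * (Pi.single q (8 : ℚ) : GolayPt → ℚ) r) = 0 := by
        refine Finset.sum_eq_zero fun r _ => ?_
        by_cases hr : r = p
        · subst hr; rw [Pi.single_eq_of_ne hpq]; ring
        · rw [Pi.single_eq_of_ne hr]; ring
      rw [this]; norm_num
  · ext p q
    rw [Matrix.mul_apply]
    have e1 : Ab (k v) p q = F' v (k⁻¹ (bq (rt (e8 p)) (rt (e8 q)))) / 8 := by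
      show F' (k v) (sv p q) / 2 = _
      have h2 : sv p q = k (k⁻¹ (sv p q)) := (k.apply_symm_apply _).symm
      rw [h2, C_F' hk, sv_eq_bq, map_smul]
      unfold F'
      rw [map_smul, map_smul, smul_eq_mul, smul_eq_mul]
      ring
    rw [e1, ind_bq hA', F'_bq]
    simp only [Matrix.mul_apply, Finset.sum_mul]
    rw [Finset.sum_comm, Finset.sum_div, Finset.sum_div]
    refine Finset.sum_congr rfl fun s _ => ?_
    rw [Finset.sum_div, Finset.sum_div]
    refine Finset.sum_congr rfl fun r _ => ?_
    show rt (A⁻¹ • e8 p) r * Ab v r s * rt (A⁻¹ • e8 q) s / 8 / 8 =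
      rt (A⁻¹ • e8 p) r / 8 * Ab v r s * (rt (A⁻¹ • e8 q) s / 8)
    ring

/-- The cubic invariant. -/
noncomputable def f3 (v : V) : ℚ := (Ab v * Ab v * Ab v).trace

theorem f3_C {k : V ≃ₗ[ℚ] V} (hk : k ∈ Conc.C) (v : V) : f3 (k v) = f3 v := by
  obtain ⟨O, hO, h⟩ := Ab_C hk
  have hO' : O * O.transpose = 1 := mul_eq_one_comm.1 hO
  unfold f3
  rw [h]
  have e : O.transpose * Ab v * O * (O.transpose * Ab v * O) * (O.transpose * Ab v * O) =
      O.transpose * (Ab v * (O * O.transpose) * Ab v * (O * O.transpose) * Ab v * O) := by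
    simp only [Matrix.mul_assoc]
  rw [e, hO', Matrix.trace_mul_comm, mul_one, mul_one, Matrix.mul_assoc, hO', mul_one]

theorem f3_eq (v : V) : f3 v = (Sm v * Sm v * Sm v).trace - F v I / 8 * (Sm v * Sm v).trace +
    (F v I) ^ 3 / 288 := by
  have ht : (Sm v).trace = F v I := by rw [F_I]; rfl
  set t := F v I with hFt
  unfold f3
  rw [Ab_eq, ← hFt]
  have e : (Sm v - (t / 24) • (1 : Matrix GolayPt GolayPt ℚ)) * (Sm v - (t / 24) • 1) *
      (Sm v - (t / 24) • 1) = Sm v * Sm v * Sm v - (t / 8) • (Sm v * Sm v) + (t ^ 2 / 192) • Sm v -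
        (t ^ 3 / 13824) • 1 := by
    simp only [sub_mul, mul_sub, smul_mul_assoc, mul_smul_comm, one_mul, mul_one, smul_sub, smul_smul]
    module
  rw [e, Matrix.trace_sub, Matrix.trace_add, Matrix.trace_sub, Matrix.trace_smul, Matrix.trace_smul,
    Matrix.trace_smul, Matrix.trace_one, ht, card_golayPt]
  simp only [smul_eq_mul]
  push_cast
  ring

end Cfsg.Agent.H850.Exist
end

-- part: H850/Exist2
section
/-!
# The reference trilinear form: the sum over the axes (helper850)
-/

set_option autoImplicit false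

namespace Cfsg.Agent.H850.Exist2

open Cfsg Cfsg.Agent.MonsterX Cfsg.Agent.MonsterX.Space Cfsg.Agent.MonsterX.USide
open Cfsg.Agent.Monster.VecEngine Cfsg.Agent.Monster Cfsg.Agent.Monster.VecSpace
open Cfsg.Agent.MonsterX.UOnto Cfsg.Agent.MonsterX.MatAct Cfsg.Agent.MonsterX.InstEval
open Cfsg.Agent.MonsterX.ProgBase Cfsg.Agent.MonsterX.KRows
open Cfsg.Agent.MonsterX.Conc Cfsg.Agent.MonsterX.InstData Cfsg.Agent.MonsterX.CoGens
open Cfsg.Agent.SporadicStructure.Co0Base Cfsg.Agent.Leech.Code
open Cfsg.Agent.H850.TriA Cfsg.Agent.H850.Coord Cfsg.Agent.H850.Parity Cfsg.Agent.H850.Func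
open Cfsg.Agent.H850.Diag Cfsg.Agent.H850.Core Cfsg.Agent.H850.Core2 Cfsg.Agent.H850.Bil
open Cfsg.Agent.H850.MatTab Cfsg.Agent.H850.Exist Cfsg.Agent.H850.TauData
open Cfsg.Agent.MonsterX.CertLenT
open Cfsg.Agent.SporadicA.M24Gens (pidx pidx_injective)

/-! ### The values on the representatives -/

theorem spec {T j : ℕ} {t1 t2 t3 : ℤ} (h : chkT T j t1 t2 t3 = true) :
    f3 (W (bj j) (vecV a0B)) = (t3 : ℚ) / 2 ^ 21 - (t1 : ℚ) / 2 ^ 7 / 8 * ((t2 : ℚ) / 2 ^ 14) +
      ((t1 : ℚ) / 2 ^ 7) ^ 3 / 288 := by
  have h' : and (runL ((bj j).map ProgTable.prog) (up 7 a0B) (okTab T))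
    (and (decide (tr1 T = t1)) (and (decide (tr2 T = t2)) (decide (tr3 T = t3)))) = true := h
  simp only [Bool.and_eq_true, decide_eq_true_eq] at h'
  obtain ⟨hrun, e1, e2, e3⟩ := h'
  obtain ⟨y, hy, hk⟩ := run_coe sym_a0B hrun
  set v := W (bj j) (vecV a0B) with hv
  have hS : ∀ p q : GolayPt, v.1 (lane p q) = (gt T (pidx p) (pidx q) : ℚ) / 2 ^ 7 := by
    intro p q
    have h1 := allZ_spec (allZ_spec hk _ (pidx_lt p)) _ (pidx_lt q)
    have h2 : val y (ln (pidx p) (pidx q)) = gt T (pidx p) (pidx q) := of_decide_eq_true h1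
    have h3 := hy (lane p q)
    have h4 : (lane p q).1 = ln (pidx p) (pidx q) := rfl
    rw [h4, h2] at h3
    rw [← h3, mul_div_cancel_left₀ _ (by norm_num)]
  have E1 : F v I = (t1 : ℚ) / 2 ^ 7 := by
    rw [F_I, ← e1]
    unfold tr1
    rw [sumZ_eq, sum_range_pt]
    push_cast
    rw [Finset.sum_div]
    exact Finset.sum_congr rfl fun p _ => hS p p
  have E2 : (Sm v * Sm v).trace = (t2 : ℚ) / 2 ^ 14 := by
    rw [← e2]
    unfold tr2
    rw [sumZ_eq, sum_range_pt]
    simp only [sumZ_eq, sum_range_pt]
    push_cast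
    rw [Finset.sum_div]
    refine Finset.sum_congr rfl fun p _ => ?_
    rw [Matrix.diag_apply, Matrix.mul_apply, Finset.sum_div]
    refine Finset.sum_congr rfl fun q _ => ?_
    show v.1 (lane p q) * v.1 (lane q p) = _
    rw [hS, hS]
    show _ = ((Int.mul (gt T (pidx p) (pidx q)) (gt T (pidx q) (pidx p)) : ℤ) : ℚ) / 2 ^ 14
    rw [show Int.mul (gt T (pidx p) (pidx q)) (gt T (pidx q) (pidx p)) =
      gt T (pidx p) (pidx q) * gt T (pidx q) (pidx p) from rfl]
    push_cast; ring
  have E3 : (Sm v * Sm v * Sm v).trace = (t3 : ℚ) / 2 ^ 21 := by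
    rw [← e3, Matrix.mul_assoc]
    unfold tr3
    rw [sumZ_eq, sum_range_pt]
    simp only [sumZ_eq, sum_range_pt]
    push_cast
    rw [Finset.sum_div]
    refine Finset.sum_congr rfl fun p _ => ?_
    rw [Matrix.diag_apply, Matrix.mul_apply, Finset.sum_div]
    refine Finset.sum_congr rfl fun q _ => ?_
    rw [Matrix.mul_apply]
    show v.1 (lane p q) * (∑ r, v.1 (lane q r) * v.1 (lane r p)) = _
    rw [show Int.mul (gt T (pidx p) (pidx q)) (∑ r, Int.mul (gt T (pidx q) (pidx r)) (gt T (pidx r) (pidx p))) =
      gt T (pidx p) (pidx q) * (∑ r, gt T (pidx q) (pidx r) * gt T (pidx r) (pidx p)) from rfl]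
    push_cast
    rw [mul_div_assoc, Finset.sum_div, hS, div_eq_mul_inv, mul_assoc]
    congr 1
    rw [Finset.mul_sum]
    refine Finset.sum_congr rfl fun r _ => ?_
    rw [hS, hS]
    ring
  rw [f3_eq, E1, E2, E3]

theorem d_eq (j : Fin 12) : M.d j = W (bj j.1) (vecV a0B) := rfl

/-- The values of the cubic invariant. -/
noncomputable def val3 (j : Fin 12) : ℚ :=
  ![253 / 36, 1 / 36, 253 / 2304, 125 / 18432, 1 / 2304, 22715 / 1179648, 611 / 1179648, -1 / 18432,
    77 / 73728, 1001 / 294912, 23 / 73728, 629 / 1179648] j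

theorem f3_d (j : Fin 12) : f3 (M.d j) = val3 j := by
  rw [d_eq]
  fin_cases j
  · exact (spec c0).trans (by unfold val3; norm_num)
  · exact (spec c1).trans (by unfold val3; norm_num)
  · exact (spec c2).trans (by unfold val3; norm_num)
  · exact (spec c3).trans (by unfold val3; norm_num)
  · exact (spec c4).trans (by unfold val3; norm_num)
  · exact (spec c5).trans (by unfold val3; norm_num)
  · exact (spec c6).trans (by unfold val3; norm_num)
  · exact (spec c7).trans (by unfold val3; norm_num)
  · exact (spec c8).trans (by unfold val3; norm_num)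
  · exact (spec c9).trans (by unfold val3; norm_num)
  · exact (spec c10).trans (by unfold val3; norm_num)
  · exact (spec c11).trans (by unfold val3; norm_num)

/-! ### The sum over the axes -/

theorem X_fin : M.X.Finite := MainBasic.X_finite InstanceFinal.mOrbit

/-- The axes. -/
noncomputable def Xf : Finset V := X_fin.toFinset

theorem mem_Xf (b : V) : b ∈ Xf ↔ b ∈ M.X := X_fin.mem_toFinset

theorem G_Xf {g : V ≃ₗ[ℚ] V} (hg : g ∈ Conc.G) {b : V} (hb : b ∈ Xf) : g b ∈ Xf := by
  rw [mem_Xf] at hb ⊢
  exact MainBasic.G_X InstanceFinal.mOrbit hg hb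

theorem orb_fin (j : Fin 12) : (MulAction.orbit M.C (M.d j) : Set V).Finite := by
  have := OrbDone.finite_C
  exact Set.finite_coe_iff.1 (CertOrbModel.finite_orbit M.C (M.d j))

theorem sum_X (f : V → ℚ) (hf : ∀ k ∈ Conc.C, ∀ v, f (k v) = f v) :
    ∑ b ∈ Xf, f b = ∑ j : Fin 12, (clen j : ℚ) * f (M.d j) := by
  classical
  have e : Xf = Finset.univ.biUnion fun j : Fin 12 => (orb_fin j).toFinset := by
    ext b
    rw [mem_Xf, CertOrbModel.mem_X_iff, Finset.mem_biUnion]
    constructor
    · rintro ⟨j, hj⟩
      exact ⟨j, Finset.mem_univ _, (orb_fin j).mem_toFinset.2 hj⟩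
    · rintro ⟨j, -, hj⟩
      exact ⟨j, (orb_fin j).mem_toFinset.1 hj⟩
  rw [e, Finset.sum_biUnion]
  · refine Finset.sum_congr rfl fun j _ => ?_
    have h1 : ∀ b ∈ (orb_fin j).toFinset, f b = f (M.d j) := by
      intro b hb
      obtain ⟨⟨k, hk⟩, rfl⟩ := (orb_fin j).mem_toFinset.1 hb
      exact hf k hk _
    rw [Finset.sum_congr rfl h1, Finset.sum_const, nsmul_eq_mul]
    congr 2
    rw [← OrbDone.card_C j]
    exact (Nat.card_eq_card_finite_toFinset (orb_fin j)).symm
  · intro j _ k _ hjk
    rw [Function.onFun, Finset.disjoint_left]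
    intro b hb hb'
    obtain ⟨⟨g, hg⟩, rfl⟩ := (orb_fin j).mem_toFinset.1 hb
    obtain ⟨⟨h, hh⟩, e'⟩ := (orb_fin k).mem_toFinset.1 hb'
    apply hjk
    have e2 : h (M.d k) = g (M.d j) := e'
    refine OrbDone.disjoint j k (h⁻¹ * g) (mul_mem (inv_mem hh) hg) ?_
    rw [LinearEquiv.mul_apply, ← e2]
    exact h.symm_apply_apply _

theorem clen_eq : ∀ j : Fin 12, clen j = ![196560, 11935123200, 1630347264000, 1466587938816000,
    6599645724672000, 1896194506752000, 438020931059712000, 1501786049347584000, 8601138282627072000,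
    786389785840189440, 37845008443559116800, 48057153579122688000] j := by
  intro j
  fin_cases j <;> exact Nat.eq_of_beq_eq_true (by decide +kernel)

theorem sum_f3 : ∑ b ∈ Xf, f3 b = 49277523141346500 := by
  rw [sum_X f3 fun k hk v => f3_C hk v]
  simp only [f3_d, clen_eq]
  simp only [Fin.sum_univ_succ, val3]
  simp
  norm_num

/-! ### The trilinear form -/

/-- The reference trilinear form. -/
noncomputable def T3 (x y w : V) : ℚ := ∑ b ∈ Xf, F' b x * F' b y * F' b w

theorem F'_lin (b : V) (x y : V) : F' b (x + y) = F' b x + F' b y := by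
  unfold F'
  rw [map_add, map_add]; ring

theorem F'_smul (b : V) (c : ℚ) (x : V) : F' b (c • x) = c * F' b x := by
  unfold F'
  rw [map_smul, map_smul, smul_eq_mul, smul_eq_mul]; ring

theorem F'_I (b : V) : F' b I = 0 := by
  unfold F'
  rw [F_I_I]; ring

theorem T3_inv {g : V ≃ₗ[ℚ] V} (hg : g ∈ Conc.G) (x y w : V) : T3 (g x) (g y) (g w) = T3 x y w := by
  unfold T3
  symm
  refine Finset.sum_bij (fun b _ => g b) (fun b hb => G_Xf hg hb) (fun a _ b _ h => g.injective h)
    (fun b hb => ⟨g⁻¹ b, G_Xf (inv_mem hg) hb, g.apply_symm_apply b⟩) fun b _ => ?_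
  rw [G_F' hg, G_F' hg, G_F' hg]

theorem T3_GInv : GInv fun x y w => (T3 x y w : ℝ) := by
  refine ⟨⟨?_, ?_, ?_, ?_, ?_, ?_⟩, ?_, ?_, ?_, ?_⟩
  · intro x x' y w
    rw [← Rat.cast_add]
    congr 1
    unfold T3
    rw [← Finset.sum_add_distrib]
    exact Finset.sum_congr rfl fun b _ => by rw [F'_lin]; ring
  · intro x y y' w
    rw [← Rat.cast_add]
    congr 1
    unfold T3
    rw [← Finset.sum_add_distrib]
    exact Finset.sum_congr rfl fun b _ => by rw [F'_lin]; ring
  · intro x y w w'
    rw [← Rat.cast_add]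
    congr 1
    unfold T3
    rw [← Finset.sum_add_distrib]
    exact Finset.sum_congr rfl fun b _ => by rw [F'_lin]; ring
  · intro c x y w
    rw [smulR, ← Rat.cast_mul]
    congr 1
    unfold T3
    rw [Finset.mul_sum]
    exact Finset.sum_congr rfl fun b _ => by rw [F'_smul]; ring
  · intro c x y w
    rw [smulR, ← Rat.cast_mul]
    congr 1
    unfold T3
    rw [Finset.mul_sum]
    exact Finset.sum_congr rfl fun b _ => by rw [F'_smul]; ring
  · intro c x y w
    rw [smulR, ← Rat.cast_mul]
    congr 1
    unfold T3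
    rw [Finset.mul_sum]
    exact Finset.sum_congr rfl fun b _ => by rw [F'_smul]; ring
  · intro g hg x y w
    rw [T3_inv hg]
  · intro y w
    show ((T3 I y w : ℚ) : ℝ) = 0
    unfold T3
    rw [Finset.sum_eq_zero fun b _ => by rw [F'_I, zero_mul, zero_mul], Rat.cast_zero]
  · intro x w
    show ((T3 x I w : ℚ) : ℝ) = 0
    unfold T3
    rw [Finset.sum_eq_zero fun b _ => by rw [F'_I, mul_zero, zero_mul], Rat.cast_zero]
  · intro x y
    show ((T3 x y I : ℚ) : ℝ) = 0
    unfold T3
    rw [Finset.sum_eq_zero fun b _ => by rw [F'_I, mul_zero], Rat.cast_zero]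

theorem f3_sum (b : V) : 8 * f3 b = ∑ p, ∑ q, ∑ r, F' b (sv p q) * F' b (sv q r) * F' b (sv r p) := by
  unfold f3
  rw [Matrix.trace, Finset.mul_sum]
  refine Finset.sum_congr rfl fun p _ => ?_
  rw [Matrix.diag_apply, Matrix.mul_assoc, Matrix.mul_apply, Finset.mul_sum]
  refine Finset.sum_congr rfl fun q _ => ?_
  rw [Matrix.mul_apply, Finset.mul_sum, Finset.mul_sum]
  refine Finset.sum_congr rfl fun r _ => ?_
  show 8 * (F' b (sv p q) / 2 * (F' b (sv q r) / 2 * (F' b (sv r p) / 2))) = _
  ring

/-- The value which controls the form is not zero. -/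
theorem T3_ne : T3 (sv P0 P0) (Xv (xl 62465)) (Xv (xl 62465)) ≠ 0 := by
  intro h
  have h0 : ∀ x y w, T3 x y w = 0 := by
    intro x y w
    have := core T3_GInv (by
      show ((T3 (sv P0 P0) (Xv (xl 62465)) (Xv (xl 62465)) : ℚ) : ℝ) = 0
      rw [h, Rat.cast_zero]) x y w
    exact_mod_cast this
  have h1 : 8 * ∑ b ∈ Xf, f3 b = ∑ p, ∑ q, ∑ r, T3 (sv p q) (sv q r) (sv r p) := by
    unfold T3
    rw [Finset.mul_sum]
    simp only [f3_sum]
    rw [Finset.sum_comm]
    refine Finset.sum_congr rfl fun p _ => ?_
    rw [Finset.sum_comm]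
    refine Finset.sum_congr rfl fun q _ => ?_
    rw [Finset.sum_comm]
  rw [sum_f3] at h1
  simp only [h0, Finset.sum_const_zero] at h1
  norm_num at h1

/-- **Every invariant trilinear form is a multiple of the reference form.** -/
theorem tri {B : V → V → V → ℝ} (h : GInv B) : ∃ c : ℝ, ∀ x y w, B x y w = c * T3 x y w := by
  set t : ℝ := ((T3 (sv P0 P0) (Xv (xl 62465)) (Xv (xl 62465)) : ℚ) : ℝ) with ht
  have ht0 : t ≠ 0 := by
    rw [ht]; exact_mod_cast T3_ne
  set s : ℝ := B (sv P0 P0) (Xv (xl 62465)) (Xv (xl 62465)) with hs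
  refine ⟨s / t, fun x y w => ?_⟩
  have hT := T3_GInv
  have h1 : GInv fun x y w => B x y w - s / t * T3 x y w := by
    refine ⟨⟨?_, ?_, ?_, ?_, ?_, ?_⟩, ?_, ?_, ?_, ?_⟩
    · intro x x' y w
      have := hT.lin.add₁ x x' y w
      rw [h.lin.add₁, this]; ring
    · intro x y y' w
      have := hT.lin.add₂ x y y' w
      rw [h.lin.add₂, this]; ring
    · intro x y w w'
      have := hT.lin.add₃ x y w w'
      rw [h.lin.add₃, this]; ring
    · intro c x y w
      have := hT.lin.smul₁ c x y w
      rw [h.lin.smul₁, this, smulR, smulR, smulR]; ring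
    · intro c x y w
      have := hT.lin.smul₂ c x y w
      rw [h.lin.smul₂, this, smulR, smulR, smulR]; ring
    · intro c x y w
      have := hT.lin.smul₃ c x y w
      rw [h.lin.smul₃, this, smulR, smulR, smulR]; ring
    · intro g hg x y w
      have := hT.inv g hg x y w
      rw [h.inv g hg, this]
    · intro y w
      have := hT.id₁ y w
      rw [h.id₁, this]; ring
    · intro x w
      have := hT.id₂ x w
      rw [h.id₂, this]; ring
    · intro x y
      have := hT.id₃ x y
      rw [h.id₃, this]; ring
  have h2 := core h1 (by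
    show s - s / t * t = 0
    rw [div_mul_cancel₀ _ ht0, sub_self]) x y w
  have h3 : B x y w - s / t * T3 x y w = 0 := h2
  linarith

end Cfsg.Agent.H850.Exist2
end

private theorem dce_645ca7a26f67 : _root_.True := by
  try have : _root_.True := by simp only [_root_.Cfsg.Agent.H850.Exist2.val3.eq_1]
  exact _root_.True.intro
end
end
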